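import Cfsg.Agent.Lib.DGroupCent.Setup
import Cfsg.Agent.Lib.ZStar.Main
import Cfsg.Agent.Lib.ZStar.Consumers
import Cfsg.Agent.Lib.TwoGroups.QuasiDihedral
import Cfsg.Agent.Lib.Balance.PComp
import Cfsg.Agent.Lib.PGroup.UniqueOrderP
import Cfsg.Agent.Lib.CyclicSylow.Basic
import Cfsg.Agent.Lib.DihedralSylow.Subgroups
import Cfsg.Agent.Lib.Transfer.Burnside
import Cfsg.Agent.Lib.GW.Basic
import Cfsg.Agent.S3277
import Cfsg.Agent.S0205

/-!
# One central involution, no element of order 4 in `A`: the Sylow 2-subgroup is not semidihedral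

Otherwise a subgroup of index two has 2-rank one, its involution becomes central modulo the odd core, and
modulo that and `O₂` the class of `z` has a four group as centraliser, giving `A₅`, which has no subgroup
of index two.
-/

set_option autoImplicit false
set_option linter.style.haveILetI false

namespace Cfsg.Agent.DGroupCent

open Subgroup

universe u

variable {G : Type u} [Group G] [Finite G]

theorem isSolvable_of_complement (h : Cfsg.HasNormalPComplement 2 G) : Group.IsSolvable G := by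
  haveI : Fact (Nat.Prime 2) := ⟨Nat.prime_two⟩
  obtain ⟨P, N, hN, hc⟩ := h
  haveI := hN
  haveI : Group.IsSolvable N := S0205.result (Nat.coprime_two_right.1
    (Transfer.coprime_card_of_isComplement'_sylow P hc))
  haveI : Group.IsNilpotent (G ⧸ N) := (IsPGroup.of_equiv P.2 hc.symm.QuotientMulEquiv.symm).isNilpotent
  exact Group.isSolvable_of_ker_le_range N.subtype (QuotientGroup.mk' N) (by simp)

theorem isSolvable_of_cyclic_sylow (S : Sylow 2 G) (hS : IsCyclic (S : Subgroup G)) :
    Group.IsSolvable G := by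
  haveI : Fact (Nat.Prime 2) := ⟨Nat.prime_two⟩
  haveI := hS
  exact isSolvable_of_complement (Transfer.hasNormalPComplement_of_normalizer_le_centralizer S
    (CyclicSylow.normalizer_le_centralizer_of S hS fun b hb hb2 =>
      DihedralSylow.mem_centralizer_of_isCyclic (S : Subgroup G) S.2 hb
        (Nat.odd_iff.2 (Nat.two_dvd_ne_zero.1 hb2))))

/-- An involution with a cyclic 2-group as centraliser forces solvability. -/
theorem isSolvable_of_cyclic_centralizer {t : G} (ht : orderOf t = 2)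
    (hp : IsPGroup 2 (centralizer ({t} : Set G))) (hc : IsCyclic (centralizer ({t} : Set G))) :
    Group.IsSolvable G := by
  haveI : Fact (Nat.Prime 2) := ⟨Nat.prime_two⟩
  obtain ⟨S, hS⟩ := hp.exists_le_sylow
  set C := centralizer ({t} : Set G) with hC
  have htC : t ∈ C := mem_cent.2 (Commute.refl t)
  by_cases hSC : (S : Subgroup G) ≤ C
  · haveI := hc
    exact isSolvable_of_cyclic_sylow S (Subgroup.isCyclic_of_le hSC)
  exfalso
  obtain ⟨⟨y, hyS⟩, hyN, hyC⟩ := SetLike.exists_of_lt (PGroup.lt_normalizer S.2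
    (H := C.subgroupOf (S : Subgroup G)) fun h => hSC (subgroupOf_eq_top.1 h))
  refine hyC (mem_subgroupOf.2 (mem_cent.2 ?_))
  have hyt : y * t * y⁻¹ ∈ C :=
    mem_subgroupOf.1 ((mem_normalizer_iff.1 hyN ⟨t, hS htC⟩).1 (mem_subgroupOf.2 htC))
  obtain ⟨σ, hσ⟩ := hc.exists_generator
  have hpow : ∀ w ∈ C, w ∈ zpowers (σ : G) := fun w hw => by
    obtain ⟨i, hi⟩ := mem_zpowers_iff.1 (hσ ⟨w, hw⟩)
    exact mem_zpowers_iff.2 ⟨i, by simpa using congrArg Subtype.val hi⟩
  have h1 : y * t * y⁻¹ = t :=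
    GW.eq_of_invol_zpowers (hpow _ hyt) (hpow _ htC) ((order_conj y t).trans ht) ht
  exact mul_inv_eq_iff_eq_mul.1 h1

/-- A group with an involution whose centraliser has order at most 4 and an index-two subgroup without
nontrivial normal 2-subgroup is solvable. -/
theorem isSolvable_of_small_cent {Y : Type u} [Group Y] [Finite Y] (M : Subgroup Y) [M.Normal]
    (hMi : M.index = 2) {z : Y} (hz : orderOf z = 2) (hzM : z ∉ M)
    (hcard : Nat.card (centralizer ({z} : Set Y)) ≤ 4)
    (hM2 : ∀ E : Subgroup Y, E.Normal → IsPGroup 2 E → E ≤ M → E = ⊥) : Group.IsSolvable Y := by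
  haveI : Fact (Nat.Prime 2) := ⟨Nat.prime_two⟩
  by_contra hns
  set C := centralizer ({z} : Set Y) with hC
  have hzC : z ∈ C := mem_cent.2 (Commute.refl z)
  have h2C : 2 ∣ Nat.card C := hz ▸ orderOf_dvd_natCard C hzC
  have hC2 : Nat.card C = 2 ∨ Nat.card C = 4 := by
    obtain ⟨c, hc⟩ := h2C
    have := Nat.card_pos (α := C)
    omega
  have hCp : IsPGroup 2 C := by
    rcases hC2 with h | h
    · exact IsPGroup.of_card (n := 1) (by rw [h]; norm_num)
    · exact IsPGroup.of_card (n := 2) (by rw [h]; norm_num)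
  have hncyc : ¬ IsCyclic C := fun hc => hns (isSolvable_of_cyclic_centralizer hz hCp hc)
  have hC4 : Nat.card C = 4 := hC2.resolve_left fun h => hncyc (isCyclic_of_prime_card h)
  have hexp : ∀ c ∈ C, c ^ 2 = 1 := by
    intro c hc
    by_contra hc2
    refine hncyc (isCyclic_of_orderOf_eq_card (⟨c, hc⟩ : C) ?_)
    have h1 : orderOf (⟨c, hc⟩ : C) ∣ 2 ^ 2 := by
      have := orderOf_dvd_natCard (⟨c, hc⟩ : C)
      rwa [hC4] at this
    obtain ⟨i, hi, hi'⟩ := (Nat.dvd_prime_pow Nat.prime_two).1 h1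
    interval_cases i
    · refine absurd ?_ hc2
      have := congrArg Subtype.val (orderOf_eq_one_iff.1 (hi'.trans (pow_zero 2)))
      rw [show c = 1 from this, one_pow]
    · refine absurd ?_ hc2
      have := pow_orderOf_eq_one (⟨c, hc⟩ : C)
      rw [hi', pow_one] at this
      simpa using congrArg Subtype.val this
    · rw [hi', hC4]; norm_num
  have hne : ∀ E : Subgroup Y, E.Normal → Cfsg.IsElementaryAbelian 2 E →
      Nat.card E ≠ 2 ∧ Nat.card E ≠ 4 := by
    intro E hE hEe
    haveI := hE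
    have hEp : IsPGroup 2 E := fun a => ⟨1, Subtype.ext (by simpa using hEe.2 a a.2)⟩
    have hEM : E ⊓ M = ⊥ := hM2 _ inferInstance (hEp.to_le inf_le_left) inf_le_right
    have huniq : ∀ a ∈ E, ∀ b ∈ E, a ≠ 1 → b ≠ 1 → a = b := by
      intro a ha b hb ha1 hb1
      have hout : ∀ e ∈ E, e ≠ 1 → e ∉ M := fun e he he1 h =>
        he1 ((Subgroup.eq_bot_iff_forall _).1 hEM e ⟨he, h⟩)
      have h1 := (Subgroup.eq_bot_iff_forall _).1 hEM (a⁻¹ * b) ⟨E.mul_mem (E.inv_mem ha) hb,
        (mul_mem_iff_of_index_two hMi).2 (iff_of_false (fun (h : a⁻¹ ∈ M) => hout a ha ha1 (by simpa using h))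
          (hout b hb hb1))⟩
      exact inv_mul_eq_one.1 h1
    constructor
    · intro hE2
      obtain ⟨⟨e, he⟩, he1⟩ : ∃ e : E, e ≠ 1 := by
        haveI : Nontrivial E := Finite.one_lt_card_iff_nontrivial.1 (by omega)
        exact exists_ne 1
      have he1' : e ≠ 1 := fun h => he1 (Subtype.ext h)
      have hecen : ∀ g : Y, Commute g e := fun g => by
        refine mul_inv_eq_iff_eq_mul.1 ?_
        exact huniq _ (hE.conj_mem e he g) e he (fun h => he1' (conj_eq_one_iff.1 h)) he1'
      have heM : e ∉ M := fun h => he1' ((Subgroup.eq_bot_iff_forall _).1 hEM e ⟨he, h⟩)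
      have hee : e * e = 1 := by
        have := hEe.2 e he
        simpa [pow_two] using this
      set w := z * e with hw
      have hwM : w ∈ M := (mul_mem_iff_of_index_two hMi).2 (iff_of_false hzM heM)
      have hww : w * w = 1 := by
        rw [hw, (hecen z).symm.mul_mul_mul_comm, mul_self_of_order hz, hee, mul_one]
      have hsame : ∀ g : Y, Commute g w → Commute g z := fun g hg => by
        have h1 := hg.mul_right (hecen g)
        rwa [hw, mul_assoc, hee, mul_one] at h1
      by_cases hw1 : w = 1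
      · refine hns ?_
        haveI : Group.IsNilpotent C := hCp.isNilpotent
        refine Group.isSolvable_of_isSolvable_injective
          (f := MonoidHom.codRestrict (MonoidHom.id Y) C fun g => mem_cent.2 (hsame g (by
            rw [hw1]; exact Commute.one_right g))) fun a b h => congrArg Subtype.val h
      · refine hns (isSolvable_of_index_two' M hMi ?_)
        have hle : ∀ g : centralizer ({(⟨w, hwM⟩ : M)} : Set M), ((g : M) : Y) ∈ C ⊓ M := fun g =>
          ⟨mem_cent.2 (hsame _ (congrArg Subtype.val (mem_cent.1 g.2).eq)), (g : M).2⟩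
        let f : centralizer ({(⟨w, hwM⟩ : M)} : Set M) →* (C ⊓ M : Subgroup Y) :=
          (M.subtype.comp (Subgroup.subtype _)).codRestrict _ hle
        have hf : Function.Injective f := fun a b h =>
          Subtype.ext (Subtype.ext (congrArg (fun x : (C ⊓ M : Subgroup Y) => (x : Y)) h))
        have hCM : Nat.card (C ⊓ M : Subgroup Y) ≤ 2 := by
          have h1 : Nat.card (C ⊓ M : Subgroup Y) ∣ 4 := hC4 ▸ card_dvd_of_le inf_le_left
          have h2 : Nat.card (C ⊓ M : Subgroup Y) ≠ 4 := fun h => hzM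
            ((eq_of_le_of_card_ge inf_le_left (by omega) : C ⊓ M = C).symm ▸ hzC :
              z ∈ C ⊓ M).2
          have h3 := Nat.le_of_dvd (by norm_num) h1
          have h4 : Nat.card (C ⊓ M : Subgroup Y) ≠ 3 := fun h => by rw [h] at h1; norm_num at h1
          omega
        haveI : IsCyclic (C ⊓ M : Subgroup Y) := by
          rcases (by have := Nat.card_pos (α := (C ⊓ M : Subgroup Y)); omega :
            Nat.card (C ⊓ M : Subgroup Y) = 1 ∨ Nat.card (C ⊓ M : Subgroup Y) = 2) with h | h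
          · haveI := (Nat.card_eq_one_iff_unique.1 h).1
            infer_instance
          · exact isCyclic_of_prime_card h
        exact isSolvable_of_cyclic_centralizer (t := (⟨w, hwM⟩ : M))
          (order_of_mul_self (Subtype.ext hww) fun h => hw1 (congrArg Subtype.val h))
          (((hCp.to_le inf_le_left : IsPGroup 2 (C ⊓ M : Subgroup Y))).of_injective f hf)
          (isCyclic_of_injective f hf)
    · intro hE4
      have hsub : (E : Set Y).ncard ≤ 2 := by
        obtain ⟨⟨e, he⟩, he1⟩ : ∃ e : E, e ≠ 1 := by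
          haveI : Nontrivial E := Finite.one_lt_card_iff_nontrivial.1 (by omega)
          exact exists_ne 1
        refine (Set.ncard_le_ncard (t := {1, e}) fun x hx => ?_).trans
          ((Set.ncard_insert_le _ _).trans (by simp))
        by_cases hx1 : x = 1
        · exact Or.inl hx1
        · exact Or.inr (huniq x hx e he hx1 fun h => he1 (Subtype.ext h))
      rw [← Nat.card_coe_set_eq, SetLike.coe_sort_coe] at hsub
      omega
  obtain ⟨e⟩ := S3277.result z hz hC4 hexp (fun h => hns (isSolvable_of_complement h)) hne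
  haveI : IsSimpleGroup (alternatingGroup (Fin 5)) := alternatingGroup.isSimpleGroup (by simp)
  haveI : IsSimpleGroup Y := e.isSimpleGroup
  rcases (inferInstance : M.Normal).eq_bot_or_eq_top with h | h
  · apply hns
    rw [h, index_bot] at hMi
    haveI : Group.IsNilpotent Y := (IsPGroup.of_card (p := 2) (n := 1) (by rw [hMi, pow_one])).isNilpotent
    infer_instance
  · rw [h, index_top] at hMi; omega
where
  isSolvable_of_index_two' {Y : Type u} [Group Y] [Finite Y] (M : Subgroup Y) [M.Normal]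
      (hMi : M.index = 2) (hs : Group.IsSolvable M) : Group.IsSolvable Y := by
    haveI := hs
    haveI : Fact (Nat.Prime 2) := ⟨Nat.prime_two⟩
    haveI : Group.IsNilpotent (Y ⧸ M) :=
      (IsPGroup.of_card (n := 1) (by rw [← index_eq_card, hMi, pow_one])).isNilpotent
    exact Group.isSolvable_of_ker_le_range M.subtype (QuotientGroup.mk' M) (by simp)

variable {H A : Subgroup G}

/-- The elements of a 2-subgroup of `H`. -/
theorem Dat.mem_four (d : Dat H A) {z : G} (huniq : ∀ a ∈ A, a * a = 1 → a = 1 ∨ a = z)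
    (hno : ∀ a ∈ A, a ^ 4 = 1 → a * a = 1) {P : Subgroup G} (hP : IsPGroup 2 P) (hPH : P ≤ H) :
    (∀ p ∈ P, p ∈ A → p = 1 ∨ p = z) ∧
      ∀ v ∈ P, v ∉ A → ∀ p ∈ P, p = 1 ∨ p = z ∨ p = v ∨ p = v * z := by
  have hA : ∀ p ∈ P, p ∈ A → p = 1 ∨ p = z := by
    intro p hp hpA
    refine huniq p hpA ?_
    obtain ⟨k, hk⟩ := hP ⟨p, hp⟩
    have hk' : p ^ 2 ^ k = 1 := congrArg Subtype.val hk
    clear hk
    induction k with
    | zero => rw [pow_zero, pow_one] at hk'; rw [hk', one_mul]
    | succ k ih =>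
      rcases k with _ | k
      · rwa [pow_one, pow_two] at hk'
      · refine ih ?_
        have h := hno (p ^ 2 ^ k) (pow_mem hpA _) (by
          rw [← pow_mul, show 2 ^ k * 4 = 2 ^ (k + 1 + 1) by ring]; exact hk')
        rw [← pow_add] at h
        rwa [show 2 ^ (k + 1) = 2 ^ k + 2 ^ k by ring]
  refine ⟨hA, fun v hv hvA p hp => ?_⟩
  by_cases hpA : p ∈ A
  · exact (hA p hp hpA).imp id Or.inl
  · rcases hA (v * p) (mul_mem hv hp) (d.mul v (hPH hv) hvA p (hPH hp) hpA) with h | h
    · exact Or.inr (Or.inr (Or.inl (by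
        rw [mul_eq_one_iff_eq_inv'] at h
        rw [h, inv_of_mul_self (d.sq v (hPH hv) hvA)])))
    · exact Or.inr (Or.inr (Or.inr (by rw [← h, ← mul_assoc, d.sq v (hPH hv) hvA, one_mul])))

/-- A 2-subgroup of `H` has at most four elements. -/
theorem Dat.card_le_four (d : Dat H A) {z : G} (huniq : ∀ a ∈ A, a * a = 1 → a = 1 ∨ a = z)
    (hno : ∀ a ∈ A, a ^ 4 = 1 → a * a = 1) {P : Subgroup G} (hP : IsPGroup 2 P) (hPH : P ≤ H) :
    Nat.card P ≤ 4 := by
  obtain ⟨h1, h2⟩ := d.mem_four huniq hno hP hPH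
  classical
  have key : ∀ s : Finset G, (∀ p ∈ P, p ∈ s) → Nat.card P ≤ s.card := fun s hs => by
    rw [← Set.ncard_coe_finset, ← SetLike.coe_sort_coe, Nat.card_coe_set_eq]
    exact Set.ncard_le_ncard fun p hp => hs p hp
  by_cases hv : ∃ v ∈ P, v ∉ A
  · obtain ⟨v, hv, hvA⟩ := hv
    refine (key {1, z, v, v * z} fun p hp => ?_).trans Finset.card_le_four
    simpa using h2 v hv hvA p hp
  · push Not at hv
    refine (key {1, z} fun p hp => ?_).trans (Finset.card_le_two.trans (by norm_num))
    simpa using h1 p hp (hv p hp)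

/-- The Sylow 2-subgroup is not semidihedral. -/
theorem Dat.not_quasiDihedral (d : Dat H A) (hns : ¬ Group.IsSolvable G) {z : G} (hzA : z ∈ A)
    (hz : orderOf z = 2) (huniq : ∀ a ∈ A, a * a = 1 → a = 1 ∨ a = z)
    (hno : ∀ a ∈ A, a ^ 4 = 1 → a * a = 1) (T : Sylow 2 G) (hzT : z ∈ (T : Subgroup G))
    (hQD : Cfsg.IsQuasiDihedral (T : Subgroup G)) : False := by
  haveI : Fact (Nat.Prime 2) := ⟨Nat.prime_two⟩
  obtain ⟨x, y, m, h⟩ := TwoGroups.exists_qdGen hQD
  have hCz : centralizer ({z} : Set G) = H := d.cent z hzA hz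
  have hTbig : 4 < Nat.card (T : Subgroup G) := by
    rw [h.card]
    have := Nat.one_le_two_pow (n := m)
    omega
  -- no conjugate of the Sylow subgroup centralises `z`
  have hnot : ∀ g : G, ¬ ∀ t ∈ (T : Subgroup G), Commute t (g * z * g⁻¹) := fun g hg => by
    have hle : (T : Subgroup G).map (MulAut.conj g⁻¹).toMonoidHom ≤ H := by
      rintro _ ⟨t, ht, rfl⟩
      rw [← hCz, mem_cent]
      have h1 := (Commute.conj_iff g⁻¹).2 (hg t ht)
      rwa [show g⁻¹ * (g * z * g⁻¹) * g⁻¹⁻¹ = z by group] at h1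
    have h2 := d.card_le_four huniq hno (T.2.map _) hle
    rw [card_map_of_injective (MulAut.conj g⁻¹).injective] at h2
    omega
  set c' : (T : Subgroup G) := x ^ ((4 : ℤ) * 2 ^ m) with hc'
  set c : G := (c' : G) with hc
  have hc'2 : c' * c' = 1 := by rw [← pow_two, hc', h.x_sq_eq_one_iff]
  have hc'1 : c' ≠ 1 := fun e => by
    have h1 := h.card_center
    rw [h.center_eq, ← hc', e, zpowers_one_eq_bot, card_bot] at h1
    omega
  have hcen : ∀ t ∈ (T : Subgroup G), Commute t c := fun t ht => congrArg Subtype.val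
    (mem_center_iff.1 ((h.x_mem_center_iff _).2 dvd_rfl) (⟨t, ht⟩ : (T : Subgroup G)))
  have hzc : ∀ g : G, g * z * g⁻¹ ≠ c := fun g e => hnot g (e ▸ hcen)
  have hxinv : ∀ i : ℤ, (x ^ i) ^ 2 = 1 → x ^ i = 1 ∨ x ^ i = c' := by
    intro i hi
    obtain ⟨k, rfl⟩ := (h.x_sq_eq_one_iff i).1 hi
    rw [_root_.zpow_mul, ← hc']
    rcases Int.even_or_odd' k with ⟨l, rfl | rfl⟩
    · left; rw [_root_.zpow_mul, zpow_two, hc'2, _root_.one_zpow]
    · right; rw [_root_.zpow_add, _root_.zpow_mul, zpow_two, hc'2, _root_.one_zpow, one_mul, zpow_one]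
  -- the form of `z`
  obtain ⟨j, hj2, hj⟩ : ∃ j : ℤ, 2 ∣ j ∧ (⟨z, hzT⟩ : (T : Subgroup G)) = x ^ j * y := by
    have hz2 : (⟨z, hzT⟩ : (T : Subgroup G)) ^ 2 = 1 := Subtype.ext (by
      simpa [pow_two] using mul_self_of_order hz)
    obtain ⟨j, e | e⟩ := h.exists_form (⟨z, hzT⟩ : (T : Subgroup G))
    · exfalso
      rcases hxinv j (e ▸ hz2) with h1 | h1
      · exact ne_one_of_order_two hz (congrArg Subtype.val (e.trans h1))
      · exact hzc 1 (by simpa [hc] using congrArg Subtype.val (e.trans h1))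
    · exact ⟨j, (h.xy_sq_eq_one_iff j).1 (e ▸ hz2), e⟩
  have hk2 : (2 : ℕ) ∣ 4 * 2 ^ m := dvd_mul_of_dvd_left (by norm_num) _
  set Q' := h.part 2 hk2 1 with hQ'
  set Q := Q'.map (T : Subgroup G).subtype
  have hQinv : ∀ q ∈ Q', q ^ 2 = 1 → q = 1 ∨ q = c' := by
    intro q hq hq2
    obtain ⟨i, rfl | rfl⟩ := h.exists_form q
    · exact hxinv i hq2
    · exfalso
      have h1 := (h.xy_mem_part hk2).1 hq
      have h2 := (h.xy_sq_eq_one_iff i).1 hq2
      omega
  have hQi : Q.relIndex (T : Subgroup G) = 2 := by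
    have h1 := card_mul_index Q'
    rw [h.card, h.card_part hk2, show 8 * 2 ^ m / 2 = 4 * 2 ^ m by omega] at h1
    rw [relIndex, show Q.subgroupOf (T : Subgroup G) = Q' from
      comap_map_eq_self_of_injective (T : Subgroup G).subtype_injective _]
    exact Nat.eq_of_mul_eq_mul_left (by positivity : 0 < 2 * (4 * 2 ^ m)) (by linarith)
  have hzQ : ∀ g : G, g * z * g⁻¹ ∉ Q := by
    rintro g ⟨q, hq, e⟩
    have e' : (q : G) = g * z * g⁻¹ := e
    rcases hQinv q hq (Subtype.ext (by
      rw [pow_two, Subgroup.coe_mul, e', conj_mul, mul_self_of_order hz]; simp)) with h1 | h1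
    · rw [h1, OneMemClass.coe_one] at e'
      exact ne_one_of_order_two hz (conj_eq_one_iff.1 e'.symm)
    · exact hzc g (e'.symm.trans (congrArg Subtype.val h1))
  obtain ⟨M, hMn, hMi, hzM⟩ := Transfer.exists_index_two_of_involution T Q (map_subtype_le _) hQi z
    (by rw [pow_two, mul_self_of_order hz]) hzT (fun h1 => hzQ 1 (by simpa using h1)) hzQ
  haveI := hMn
  have hMc : ∀ s ∈ (T : Subgroup G), s ∈ M → orderOf s = 2 → s = c := by
    intro s hs hsM hs2
    have hs2' : (⟨s, hs⟩ : (T : Subgroup G)) ^ 2 = 1 := Subtype.ext (by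
      simpa [pow_two] using mul_self_of_order hs2)
    obtain ⟨i, e | e⟩ := h.exists_form (⟨s, hs⟩ : (T : Subgroup G))
    · rcases hxinv i (e ▸ hs2') with h1 | h1
      · exact absurd (congrArg Subtype.val (e.trans h1)) (ne_one_of_order_two hs2)
      · exact congrArg Subtype.val (e.trans h1)
    · exfalso
      obtain ⟨k, hk⟩ := h.exists_conj (i := i) (i' := j)
        (dvd_sub hj2 ((h.xy_sq_eq_one_iff i).1 (e ▸ hs2')))
      rw [← e, ← hj] at hk
      have h1 := hMn.conj_mem s hsM ((x ^ k : (T : Subgroup G)) : G)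
      rw [show ((x ^ k : (T : Subgroup G)) : G) * s * ((x ^ k : (T : Subgroup G)) : G)⁻¹ = z from
        congrArg Subtype.val hk] at h1
      exact hzM h1
  -- involutions of `M`
  have hMinv : ∀ R : Subgroup G, IsPGroup 2 R → R ≤ M →
      ∃ g : G, ∀ s ∈ R, orderOf s = 2 → g * s * g⁻¹ = c := by
    intro R hR hRM
    obtain ⟨R', hR'⟩ := hR.exists_le_sylow
    obtain ⟨g, hg⟩ := MulAction.exists_smul_eq G R' T
    refine ⟨g, fun s hs hs2 => hMc _ ?_ (hMn.conj_mem s (hRM hs) g) ((order_conj g s).trans hs2)⟩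
    rw [← hg, Sylow.coe_subgroup_smul]
    exact Subgroup.smul_mem_pointwise_smul s (MulAut.conj g) _ (hR' hs)
  have hMns : ¬ Group.IsSolvable M := fun hs => hns
    (isSolvable_of_small_cent.isSolvable_of_index_two' M hMi hs)
  have hcM : c ∈ M := by
    have h2 : 2 ∣ Nat.card M := by
      by_contra h2
      exact hMns (S0205.result (Nat.odd_iff.2 (Nat.two_dvd_ne_zero.1 h2)))
    obtain ⟨w, hw⟩ := exists_prime_orderOf_dvd_card' (G := M) 2 h2
    have hw' : orderOf (w : G) = 2 := by rwa [Subgroup.orderOf_coe]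
    obtain ⟨g, hg⟩ := hMinv (zpowers (w : G))
      (IsPGroup.of_card (n := 1) (by rw [Nat.card_zpowers, hw', pow_one])) (zpowers_le.2 w.2)
    exact hg _ (mem_zpowers _) hw' ▸ hMn.conj_mem _ w.2 g
  have hrank : ∀ E : Subgroup M, ¬ IsKleinFour E := by
    intro E hE
    obtain ⟨g, hg⟩ := hMinv (E.map M.subtype)
      ((IsPGroup.of_card (p := 2) (n := 2) (by rw [hE.card_four]; norm_num) : IsPGroup 2 E).map _)
      (map_subtype_le _)
    have h1 : ∀ a ∈ E, a ≠ 1 → g * (a : G) * g⁻¹ = c := fun a ha ha1 => hg _ ⟨a, ha, rfl⟩ (by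
      rw [Subgroup.orderOf_coe]
      refine order_of_mul_self ?_ ha1
      have h3 := Monoid.pow_exponent_eq_one (⟨a, ha⟩ : E)
      rw [hE.exponent_two, pow_two] at h3
      exact congrArg Subtype.val h3)
    have h2 : (E : Set M).ncard ≤ 2 := by
      haveI : Nontrivial E := Finite.one_lt_card_iff_nontrivial.1 (by rw [hE.card_four]; norm_num)
      obtain ⟨⟨e, he⟩, he1⟩ := exists_ne (1 : E)
      refine (Set.ncard_le_ncard (t := {1, e}) fun a ha => ?_).trans
        ((Set.ncard_insert_le _ _).trans (by simp))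
      by_cases ha1 : a = 1
      · exact Or.inl ha1
      · refine Or.inr (Subtype.ext (mul_left_cancel (mul_right_cancel ((h1 a ha ha1).trans
          (h1 e he fun h => he1 (Subtype.ext h)).symm))))
    rw [← Nat.card_coe_set_eq, SetLike.coe_sort_coe, hE.card_four] at h2
    omega
  have hcT : c ∈ (T : Subgroup G) := c'.2
  have hc2 : orderOf c = 2 := by
    rw [hc, Subgroup.orderOf_coe]; exact order_of_mul_self hc'2 hc'1
  have hZM := ZStar.inZStar (ZStar.isolated_of_no_kleinFour hrank (z := (⟨c, hcM⟩ : M))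
    (by rw [← Subgroup.orderOf_coe]; exact hc2))
  set O := Cfsg.oddCore G
  have hOodd : Odd (Nat.card O) := PCore.odd_card_oddCore
  have hcomm : ∀ g : G, g * c * g⁻¹ * c⁻¹ ∈ O := by
    have hin : ∀ g ∈ M, g * c * g⁻¹ * c⁻¹ ∈ O := fun g hg => by
      have h1 := hZM ⟨g, hg⟩
      rw [show Cfsg.pPrimeCore 2 M = O.subgroupOf M from PCore.pPrimeCore_normal_subgroup_eq M] at h1
      simpa [mem_subgroupOf] using h1
    intro g
    by_cases hg : g ∈ M
    · exact hin g hg
    · have h1 := hin (g * z) ((mul_mem_iff_of_index_two hMi).2 (iff_of_false hg hzM))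
      have h2 : g * z * c * (g * z)⁻¹ = g * c * g⁻¹ := by
        calc g * z * c * (g * z)⁻¹ = g * (z * c * z⁻¹) * g⁻¹ := by group
          _ = g * c * g⁻¹ := by rw [(hcen z hzT).eq, mul_inv_cancel_right]
      rwa [h2] at h1
  have hcH : c ∈ H := by rw [← hCz, mem_cent]; exact (hcen z hzT).symm
  have hcA : c ∉ A := fun h1 => by
    rcases huniq c h1 (mul_self_of_order hc2) with h2 | h2
    · exact ne_one_of_order_two hc2 h2
    · exact hzc 1 (by simp [h2])
  set π := QuotientGroup.mk' O
  have hπ : ∀ {a : G}, π a = 1 ↔ a ∈ O := fun {a} => QuotientGroup.eq_one_iff a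
  -- the centraliser of the image of `z`
  have hAim : ∀ a ∈ A, π a = 1 ∨ π a = π z := by
    intro a ha
    have h1 : a * a ∈ O := by
      have h2 := hcomm a
      rwa [mul_assoc a c a⁻¹, mul_assoc, mul_assoc, show a⁻¹ * c⁻¹ = (c * a)⁻¹ by group,
        show c * (c * a)⁻¹ = c * a⁻¹ * c⁻¹ by group, d.inv c hcH hcA _ (inv_mem ha), inv_inv] at h2
    obtain ⟨k, hk⟩ := hOodd
    have h2 : a ^ Nat.card O * a ^ Nat.card O = 1 := by
      rw [← pow_add, ← two_mul, pow_mul, pow_two]
      exact congrArg Subtype.val (pow_card_eq_one' (x := (⟨a * a, h1⟩ : O)))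
    have h3 : π (a ^ Nat.card O) = π a := by
      rw [hk, pow_succ, pow_mul, map_mul, map_pow, pow_two, hπ.2 h1, one_pow, one_mul]
    rcases huniq _ (pow_mem ha _) h2 with h4 | h4
    · exact Or.inl (by rw [← h3, h4, map_one])
    · exact Or.inr (by rw [← h3, h4])
  classical
  set W : Finset (G ⧸ O) := {1, π z, π c, π c * π z} with hW
  have hCX : ∀ q : G ⧸ O, Commute q (π z) → q ∈ W := by
    intro q hq
    obtain ⟨g, rfl⟩ := QuotientGroup.mk'_surjective O q
    obtain ⟨n, hn, hne⟩ := Balance.exists_mem_centralizer_of_map π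
      (by rw [QuotientGroup.ker_mk']; exact Nat.coprime_two_right.2 hOodd) (R := zpowers z)
      (IsPGroup.of_card (p := 2) (n := 1) (by rw [Nat.card_zpowers, hz, pow_one]))
      (g := g) (fun r hr => by
        obtain ⟨i, rfl⟩ := mem_zpowers_iff.1 hr
        rw [map_zpow]; exact hq.zpow_right i)
    have hnH : n ∈ H := by
      rw [← hCz, mem_cent]
      exact (mem_centralizer_iff.1 hn z (mem_zpowers z)).symm
    rw [← hne]
    simp only [hW, Finset.mem_insert, Finset.mem_singleton]
    by_cases hnA : n ∈ A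
    · exact (hAim n hnA).imp id Or.inl
    · have h1 : n = c * (c * n) := by rw [← mul_assoc, mul_self_of_order hc2, one_mul]
      rcases hAim _ (d.mul c hcH hcA n hnH hnA) with h2 | h2
      · exact Or.inr (Or.inr (Or.inl (by rw [h1, map_mul, h2, mul_one])))
      · exact Or.inr (Or.inr (Or.inr (by rw [h1, map_mul, h2])))
  have hOM : O ≤ M := fun o ho => by
    obtain ⟨k, hk⟩ := hOodd.of_dvd_nat (orderOf_dvd_natCard O ho)
    have h2 : o = (o * o) ^ (k + 1) := by
      rw [← pow_two, ← pow_mul, show 2 * (k + 1) = orderOf o + 1 by omega, pow_succ,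
        pow_orderOf_eq_one, one_mul]
    rw [h2]
    exact pow_mem (mul_self_mem_of_index_two hMi o) _
  set M' := M.map π with hM'
  haveI hM'n : M'.Normal := hMn.map π (QuotientGroup.mk'_surjective O)
  have hcomap : M'.comap π = M := comap_map_eq_self (by rw [QuotientGroup.ker_mk']; exact hOM)
  have hM'i : M'.index = 2 := by
    exact ((index_comap_of_surjective M' (QuotientGroup.mk'_surjective O)).symm.trans (congrArg Subgroup.index hcomap)).trans hMi
  have hzM' : π z ∉ M' := fun h1 => hzM (hcomap ▸ h1)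
  set R := Cfsg.pCore 2 (G ⧸ O) ⊓ M' with hR
  have hRp : IsPGroup 2 R := PCore.isPGroup_pCore.to_le inf_le_left
  set ρ := QuotientGroup.mk' R
  set M'' := M'.map ρ
  haveI hM''n : M''.Normal := hM'n.map ρ (QuotientGroup.mk'_surjective R)
  have hcomap' : M''.comap ρ = M' := comap_map_eq_self (by rw [QuotientGroup.ker_mk']; exact inf_le_right)
  have hM''i : M''.index = 2 := by
    exact ((index_comap_of_surjective M'' (QuotientGroup.mk'_surjective R)).symm.trans (congrArg Subgroup.index hcomap')).trans hM'i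
  have hzM'' : ρ (π z) ∉ M'' := fun h1 => hzM' (hcomap' ▸ h1)
  have hzz : π z * π z = 1 := by rw [← map_mul, mul_self_of_order hz, map_one]
  have hord : orderOf (ρ (π z)) = 2 :=
    order_of_mul_self (by rw [← map_mul, hzz, map_one]) fun h1 => hzM'' (h1 ▸ one_mem M'')
  have hcardC : Nat.card (centralizer ({ρ (π z)} : Set ((G ⧸ O) ⧸ R))) ≤ 4 := by
    classical
    set P := (centralizer ({ρ (π z)} : Set ((G ⧸ O) ⧸ R))).comap ρ with hP
    haveI : Fintype P := Fintype.ofFinite _
    let comm : P → G ⧸ O := fun q => (q : G ⧸ O) * π z * (q : G ⧸ O)⁻¹ * π z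
    have hcommR : ∀ q : P, comm q ∈ R := fun q => by
      rw [← QuotientGroup.eq_one_iff]
      show ρ (comm q) = 1
      have h1 : Commute (ρ (q : G ⧸ O)) (ρ (π z)) := mem_cent.1 q.2
      simp only [comm, map_mul, map_inv]
      rw [h1.eq, mul_inv_cancel_right, ← map_mul, hzz, map_one]
    haveI : Fintype R := Fintype.ofFinite _
    have hle : (Finset.univ : Finset P).card ≤ 4 * (Finset.univ : Finset R).card := by
      refine Finset.card_le_mul_card_image_of_maps_to (f := fun q : P => (⟨comm q, hcommR q⟩ : R))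
        (fun q _ => Finset.mem_univ _) 4 fun r _ => ?_
      by_cases hne : ∃ q₀ : P, (⟨comm q₀, hcommR q₀⟩ : R) = r
      · obtain ⟨q₀, hq₀⟩ := hne
        refine (Finset.card_le_card_of_injOn (fun q : P => (q₀ : G ⧸ O)⁻¹ * q) (t := W)
          (fun q hq => ?_) (fun a _ b _ e => Subtype.ext (mul_left_cancel e))).trans Finset.card_le_four
        simp only [Finset.coe_filter, Finset.mem_univ, true_and, Set.mem_setOf_eq] at hq
        refine Finset.mem_coe.2 (hCX _ ?_)
        have h1 : (q : G ⧸ O) * π z * (q : G ⧸ O)⁻¹ = (q₀ : G ⧸ O) * π z * (q₀ : G ⧸ O)⁻¹ :=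
          mul_right_cancel (congrArg Subtype.val (hq.trans hq₀.symm))
        show _ = _
        calc (q₀ : G ⧸ O)⁻¹ * q * π z
            = (q₀ : G ⧸ O)⁻¹ * ((q : G ⧸ O) * π z * (q : G ⧸ O)⁻¹) * q := by group
          _ = π z * ((q₀ : G ⧸ O)⁻¹ * q) := by rw [h1]; group
      · rw [Finset.filter_eq_empty_iff.2 fun q _ h1 => hne ⟨q, h1⟩]
        simp
    rw [Finset.card_univ, Finset.card_univ, ← Nat.card_eq_fintype_card, ← Nat.card_eq_fintype_card] at hle
    have hPc : Nat.card P = Nat.card R * Nat.card (centralizer ({ρ (π z)} : Set ((G ⧸ O) ⧸ R))) := by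
      have hker : (ρ.comp P.subtype).ker = R.subgroupOf P := by
        rw [← MonoidHom.comap_ker, QuotientGroup.ker_mk']; rfl
      have hran : (ρ.comp P.subtype).range = centralizer ({ρ (π z)} : Set ((G ⧸ O) ⧸ R)) := by
        rw [MonoidHom.range_eq_map, ← Subgroup.map_map, ← MonoidHom.range_eq_map, range_subtype, hP,
          map_comap_eq_self_of_surjective (QuotientGroup.mk'_surjective R)]
      have hRP : R ≤ P := fun r hr => by
        rw [hP, mem_comap, show ρ r = 1 from (QuotientGroup.eq_one_iff r).2 hr]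
        exact one_mem _
      have h1 := card_mul_index (ρ.comp P.subtype).ker
      rw [index_ker, hran, hker, Nat.card_congr (subgroupOfEquivOfLe hRP).toEquiv] at h1
      exact h1.symm
    rw [hPc, mul_comm 4] at hle
    exact Nat.le_of_mul_le_mul_left hle Nat.card_pos
  have hsol := isSolvable_of_small_cent M'' hM''i hord hzM'' hcardC (fun E hE hEp hEM => by
    haveI := hE
    have h1 : E.comap ρ ≤ R := by
      refine le_inf (PCore.le_pCore (hEp.comap_of_ker_isPGroup ρ ?_)) ?_
      · rw [QuotientGroup.ker_mk']; exact hRp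
      · exact fun q hq => hcomap' ▸ (hEM hq : ρ q ∈ M'')
    refine le_bot_iff.1 fun q hq => ?_
    obtain ⟨q, rfl⟩ := QuotientGroup.mk'_surjective R q
    exact mem_bot.2 ((QuotientGroup.eq_one_iff q).2 (h1 hq)))
  apply hns
  haveI := hsol
  haveI : Group.IsNilpotent R := hRp.isNilpotent
  haveI : Group.IsSolvable (G ⧸ O) := Group.isSolvable_of_ker_le_range R.subtype (QuotientGroup.mk' R) (by simp)
  haveI : Group.IsSolvable O := S0205.result hOodd
  exact Group.isSolvable_of_ker_le_range O.subtype (QuotientGroup.mk' O) (by simp)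

end Cfsg.Agent.DGroupCent
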