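import Mathlib

/-!
# Two facts about `A₇`
-/

set_option autoImplicit false

namespace Cfsg.Agent.DGroupCent

open Equiv

/-- An involution, an element of order 3 and a second involution, commuting pairwise. -/
theorem alt_seven_triple : ∃ t d v : alternatingGroup (Fin 7), orderOf t = 2 ∧ orderOf d = 3 ∧
    orderOf v = 2 ∧ v ≠ t ∧ t * d = d * t ∧ t * v = v * t ∧ d * v = v * d := by
  have : Fact (Nat.Prime 3) := ⟨Nat.prime_three⟩
  refine ⟨⟨swap 0 1 * swap 2 3, Perm.mem_alternatingGroup.2 (by decide)⟩,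
    ⟨swap 4 5 * swap 5 6, Perm.mem_alternatingGroup.2 (by decide)⟩,
    ⟨swap 0 2 * swap 1 3, Perm.mem_alternatingGroup.2 (by decide)⟩,
    ?_, ?_, ?_, ?_, ?_, ?_, ?_⟩
  · exact orderOf_eq_prime (Subtype.ext (by rw [SubgroupClass.coe_pow]; decide))
      fun h => absurd (congrArg Subtype.val h) (by decide)
  · exact orderOf_eq_prime (Subtype.ext (by rw [SubgroupClass.coe_pow]; decide))
      fun h => absurd (congrArg Subtype.val h) (by decide)
  · exact orderOf_eq_prime (Subtype.ext (by rw [SubgroupClass.coe_pow]; decide))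
      fun h => absurd (congrArg Subtype.val h) (by decide)
  · exact fun h => absurd (congrArg Subtype.val h) (by decide)
  · exact Subtype.ext (by rw [Subgroup.coe_mul, Subgroup.coe_mul]; decide)
  · exact Subtype.ext (by rw [Subgroup.coe_mul, Subgroup.coe_mul]; decide)
  · exact Subtype.ext (by rw [Subgroup.coe_mul, Subgroup.coe_mul]; decide)

/-- `A₇` has no element of order 12. -/
theorem alt_seven_no_twelve (g : alternatingGroup (Fin 7)) : orderOf g ≠ 12 := by
  intro h
  rw [← Subgroup.orderOf_coe, ← Perm.lcm_cycleType] at h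
  set σ : Perm (Fin 7) := (g : Perm (Fin 7))
  set s := σ.cycleType with hs
  have hsum : s.sum ≤ 7 := by simpa using σ.sum_cycleType_le
  have hpar : (s.sum + s.card) % 2 = 0 := by
    have h1 := Perm.mem_alternatingGroup.1 g.2
    rw [Perm.sign_of_cycleType, neg_one_pow_eq_one_iff_even (by decide)] at h1
    exact Nat.even_iff.1 h1
  have h2 : ∀ x ∈ s, 2 ≤ x := fun x hx => Perm.two_le_of_mem_cycleType hx
  have hdvd : ∀ x ∈ s, x ∣ 12 := fun x hx => h ▸ Multiset.dvd_lcm hx
  have h4 : 4 ∈ s := by
    by_contra hno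
    have h6 : s.lcm ∣ 6 := Multiset.lcm_dvd.2 fun x hx => by
      have hle : x ≤ 7 := (Multiset.le_sum_of_mem hx).trans hsum
      have h2' := h2 x hx
      have hd := hdvd x hx
      interval_cases x
      · norm_num
      · norm_num
      · exact absurd hx hno
      · norm_num at hd
      · norm_num
      · norm_num at hd
    rw [h] at h6
    norm_num at h6
  obtain ⟨r, hr⟩ := Multiset.exists_cons_of_mem h4
  rw [hr, Multiset.sum_cons] at hsum hpar
  rw [Multiset.card_cons] at hpar
  rw [hr, Multiset.lcm_cons] at h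
  rcases Multiset.empty_or_exists_mem r with rfl | ⟨x, hx⟩
  · simp at h
  obtain ⟨r', hr'⟩ := Multiset.exists_cons_of_mem hx
  rw [hr', Multiset.sum_cons] at hsum hpar
  rw [Multiset.card_cons] at hpar
  rw [hr', Multiset.lcm_cons] at h
  have hx2 : 2 ≤ x := h2 x (hr ▸ Multiset.mem_cons_of_mem hx)
  rcases Multiset.empty_or_exists_mem r' with rfl | ⟨y, hy⟩
  · rw [Multiset.sum_zero, add_zero] at hsum hpar
    rw [Multiset.card_zero] at hpar
    simp at h
    have hx3 : x ≤ 3 := by omega
    interval_cases x <;> simp_all [lcm, Nat.lcm]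
  · have hy2 : 2 ≤ y := h2 y (hr ▸ Multiset.mem_cons_of_mem (hr' ▸ Multiset.mem_cons_of_mem hy))
    have := Multiset.le_sum_of_mem hy
    omega

end Cfsg.Agent.DGroupCent
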