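import Mathlib

/-!
# Involutions outside a normal noncyclic subgroup of a dihedral 2-group
-/

set_option autoImplicit false
set_option linter.style.haveILetI false
set_option linter.unusedSectionVars false

namespace Cfsg.Agent.DGroupCent

open DihedralGroup

variable {n : ℕ} [NeZero n]

/-- Every element is a product of at most two involutions `sr i`. -/
theorem sr_cases (d : DihedralGroup n) : (∃ i, d = sr i) ∨ ∃ i j, d = sr i * sr j := by
  rcases d with b | b
  · exact Or.inr ⟨0, b, by simp⟩
  · exact Or.inl ⟨b, rfl⟩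

theorem sr_sq (i : ZMod n) : (sr i : DihedralGroup n) * sr i = 1 := sr_mul_self i

section Normal

variable (T : Subgroup (DihedralGroup n)) [hTn : T.Normal] (hT : ¬ IsCyclic T)
include hTn hT

theorem exists_sr_mem : ∃ a, (sr a : DihedralGroup n) ∈ T := by
  by_contra hno
  apply hT
  refine Subgroup.isCyclic_of_le (H' := Subgroup.zpowers (r (1 : ZMod n))) fun d hd => ?_
  rcases d with b | b
  · refine ⟨(b.val : ℤ), ?_⟩
    show r (1 : ZMod n) ^ ((b.val : ℕ) : ℤ) = _
    rw [r_one_zpow, Int.cast_natCast, ZMod.natCast_zmod_val]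
  · exact absurd ⟨b, hd⟩ hno

theorem r_two_mul_mem (c : ZMod n) : (r (2 * c) : DihedralGroup n) ∈ T := by
  obtain ⟨a, ha⟩ := exists_sr_mem T hT
  have h1 := T.mul_mem ha (hTn.conj_mem _ ha (r (-c)))
  have e : sr a * (r (-c) * sr a * (r (-c))⁻¹) = r (2 * c) := by
    simp; ring
  rwa [e] at h1

omit hTn hT in
theorem even_or_odd (b : ZMod n) : ∃ c : ZMod n, b = 2 * c ∨ b = 2 * c + 1 := by
  rcases Nat.even_or_odd' b.val with ⟨c, hc | hc⟩
  · exact ⟨c, Or.inl (by rw [← ZMod.natCast_zmod_val b, hc]; push_cast; ring)⟩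
  · exact ⟨c, Or.inr (by rw [← ZMod.natCast_zmod_val b, hc]; push_cast; ring)⟩

/-- A rotation of square one is in `T`, for `n` a power of two. -/
theorem r_mem_of_sq {k : ℕ} (hn : n = 2 ^ k) {b : ZMod n} (hb : b + b = 0) :
    (r b : DihedralGroup n) ∈ T := by
  rcases Nat.lt_or_ge k 2 with hk | hk
  · -- a noncyclic subgroup of a group of order at most four is everything
    have hcard : Nat.card (DihedralGroup n) ≤ 4 := by
      rw [nat_card, hn]
      interval_cases k <;> simp
    have htop : T = ⊤ := by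
      by_contra hne
      apply hT
      have h1 := Subgroup.card_mul_index T
      have h2 : 2 ≤ T.index := by
        have := Subgroup.one_lt_index_of_ne_top hne
        omega
      have h3 : Nat.card T ≤ 2 := by nlinarith
      rcases (by have := Nat.card_pos (α := T); omega : Nat.card T = 1 ∨ Nat.card T = 2) with h | h
      · haveI := (Nat.card_eq_one_iff_unique.1 h).1
        infer_instance
      · haveI : Fact (Nat.Prime 2) := ⟨Nat.prime_two⟩
        exact isCyclic_of_prime_card h
    rw [htop]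
    exact Subgroup.mem_top _
  · obtain ⟨c, rfl | rfl⟩ := even_or_odd b
    · exact r_two_mul_mem T hT c
    · exfalso
      obtain ⟨k, rfl⟩ : ∃ j, k = j + 2 := ⟨k - 2, by omega⟩
      have h4 : (4 : ℕ) ∣ n := ⟨2 ^ k, by rw [hn, pow_add]; ring⟩
      have := congrArg (ZMod.castHom h4 (ZMod 4)) hb
      simp only [map_add, map_mul, map_ofNat, map_one, map_zero] at this
      generalize ZMod.castHom h4 (ZMod 4) c = w at this
      revert w
      decide

theorem exists_sr_of_not_mem {k : ℕ} (hn : n = 2 ^ k) {d : DihedralGroup n} (hd : d * d = 1) (hdT : d ∉ T) :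
    ∃ i, d = sr i := by
  rcases d with b | b
  · refine absurd (r_mem_of_sq T hT hn ?_) hdT
    rw [r_mul_r, one_def, r.injEq] at hd
    exact hd
  · exact ⟨b, rfl⟩

/-- The involutions outside `T` are conjugate. -/
theorem exists_conj_of_not_mem {k : ℕ} (hn : n = 2 ^ k) {p q : DihedralGroup n} (hp : p * p = 1)
    (hpT : p ∉ T) (hq : q * q = 1) (hqT : q ∉ T) : ∃ s, s * p * s⁻¹ = q := by
  obtain ⟨a, ha⟩ := exists_sr_mem T hT
  have hpar : ∀ i, (sr i : DihedralGroup n) ∉ T → ∃ c, i = a + (2 * c + 1) := by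
    intro i hi
    obtain ⟨c, hc | hc⟩ := even_or_odd (i - a)
    · refine absurd ?_ hi
      have h := T.mul_mem ha (r_two_mul_mem T hT c)
      rwa [sr_mul_r, ← hc, add_sub_cancel] at h
    · exact ⟨c, by rw [← hc]; ring⟩
  obtain ⟨i, rfl⟩ := exists_sr_of_not_mem T hT hn hp hpT
  obtain ⟨j, rfl⟩ := exists_sr_of_not_mem T hT hn hq hqT
  obtain ⟨c, rfl⟩ := hpar i hpT
  obtain ⟨c', rfl⟩ := hpar j hqT
  exact ⟨r (c - c'), by simp; ring⟩

end Normal

end Cfsg.Agent.DGroupCent
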