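import Cfsg.Agent.S1230
import Cfsg.Agent.S0205
import Cfsg.Agent.Lib.PCore.Basic

/-!
# A self-centralising elementary abelian 2-subgroup

If `H` has exponent 2, order at least 4, and is the centraliser of each of its involutions, then it is a
Sylow 2-subgroup and a nonsolvable group is `PSL₂(|H|)`.
-/

set_option autoImplicit false
set_option linter.style.haveILetI false

namespace Cfsg.Agent.DGroupCent

open Subgroup

universe u

variable {G : Type u} [Group G] [Finite G]

theorem elementary_case (hns : ¬ Group.IsSolvable G) {H : Subgroup G} (h4 : 4 ∣ Nat.card H)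
    (he : ∀ h ∈ H, h * h = 1) (hC : ∀ j ∈ H, orderOf j = 2 → centralizer ({j} : Set G) = H) :
    ∃ (F : Type) (_ : Field F) (_ : Fintype F), 3 < Fintype.card F ∧
      Nonempty (G ≃* Matrix.ProjectiveSpecialLinearGroup (Fin 2) F) := by
  haveI : Fact (Nat.Prime 2) := ⟨Nat.prime_two⟩
  have hH4 : 4 ≤ Nat.card H := Nat.le_of_dvd Nat.card_pos h4
  haveI : Nontrivial H := Finite.one_lt_card_iff_nontrivial.1 (by omega)
  obtain ⟨⟨j, hjH⟩, hj1⟩ := exists_ne (1 : H)
  have hj2 : orderOf j = 2 :=
    orderOf_eq_prime (by rw [pow_two, he j hjH]) fun h => hj1 (Subtype.ext h)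
  have hHp : IsPGroup 2 H := fun h => ⟨1, Subtype.ext (by simpa [pow_two] using he h h.2)⟩
  obtain ⟨T, hT⟩ := hHp.exists_le_sylow
  have hTH : (T : Subgroup G) = H := by
    refine le_antisymm ?_ hT
    haveI : Nontrivial (T : Subgroup G) := ⟨⟨⟨j, hT hjH⟩, 1, fun h => hj1 (Subtype.ext (congrArg
      (fun w : (T : Subgroup G) => (w : G)) h))⟩⟩
    obtain ⟨k, hk, hcard⟩ :=
      (T.2.to_subgroup (center (T : Subgroup G))).nontrivial_iff_card.mp T.2.center_nontrivial
    obtain ⟨z, hz⟩ := exists_prime_orderOf_dvd_card' (G := center (T : Subgroup G)) 2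
      (hcard ▸ dvd_pow_self 2 hk.ne')
    have hz' : orderOf ((z : (T : Subgroup G)) : G) = 2 := by rwa [Subgroup.orderOf_coe, Subgroup.orderOf_coe]
    have hzc : ∀ t ∈ (T : Subgroup G), t * ((z : (T : Subgroup G)) : G) = ((z : (T : Subgroup G)) : G) * t :=
      fun t ht => congrArg Subtype.val (mem_center_iff.1 z.2 ⟨t, ht⟩)
    have hzH : ((z : (T : Subgroup G)) : G) ∈ H := by
      rw [← hC j hjH hj2, mem_centralizer_singleton_iff]
      exact (hzc j (hT hjH)).symm
    intro t ht
    rw [← hC _ hzH hz', mem_centralizer_singleton_iff]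
    exact hzc t ht
  have hTcard : Nat.card (T : Subgroup G) = Nat.card H := by rw [hTH]
  have hnc : ¬ IsCyclic (T : Subgroup G) := fun hc => by
    haveI := hc
    obtain ⟨g, hg⟩ := IsCyclic.exists_generator (α := (T : Subgroup G))
    have h1 : orderOf g ∣ 2 := orderOf_dvd_of_pow_eq_one (by
      rw [pow_two]; exact Subtype.ext (he g (hTH ▸ g.2)))
    rw [orderOf_eq_card_of_forall_mem_zpowers hg, hTcard] at h1
    have := Nat.le_of_dvd two_pos h1
    omega
  have hnn : ¬ (T : Subgroup G).Normal := fun hn => by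
    haveI := hn
    haveI : Group.IsNilpotent (T : Subgroup G) := T.2.isNilpotent
    haveI : Group.IsSolvable (G ⧸ (T : Subgroup G)) := S0205.result (by
      rw [← index_eq_card]; exact Nat.odd_iff.2 (Nat.two_dvd_ne_zero.1 T.not_dvd_index))
    exact hns (Group.isSolvable_of_ker_le_range (T : Subgroup G).subtype
      (QuotientGroup.mk' (T : Subgroup G)) (by simp))
  obtain ⟨F, iF, iFF, hcard, e⟩ := S1230.result T hnc hnn fun t ht => by
    obtain ⟨R, hR⟩ := (IsPGroup.of_card (p := 2) (n := 1) (G := zpowers t)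
      (by rw [Nat.card_zpowers, ht, pow_one])).exists_le_sylow
    obtain ⟨g, hg⟩ := MulAction.exists_smul_eq G R T
    have h1 : g * t * g⁻¹ ∈ (T : Subgroup G) := by
      rw [← hg, Sylow.coe_subgroup_smul]
      exact Subgroup.smul_mem_pointwise_smul t (MulAut.conj g) _ (hR (mem_zpowers t))
    have h2 : ∀ c ∈ centralizer ({t} : Set G), g * c * g⁻¹ ∈ H := by
      intro c hc
      rw [← hC _ (hTH ▸ h1) (by rw [← MulAut.conj_apply, MulEquiv.orderOf_eq, ht]),
        mem_centralizer_singleton_iff]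
      exact (Commute.conj_iff g).2 (mem_centralizer_singleton_iff.1 hc)
    have h3 : ∀ c ∈ centralizer ({t} : Set G), c * c = 1 := fun c hc => by
      have := he _ (h2 c hc)
      rwa [conj_mul, conj_eq_one_iff] at this
    refine ⟨⟨⟨fun a b => Subtype.ext ?_⟩⟩, fun c hc => by rw [pow_two]; exact h3 c hc⟩
    show (a : G) * b = b * a
    have hab := h3 _ (mul_mem a.2 b.2)
    rw [mul_eq_one_iff_eq_inv, _root_.mul_inv_rev, inv_eq_of_mul_eq_one_right (h3 a a.2),
      inv_eq_of_mul_eq_one_right (h3 b b.2)] at hab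
    exact hab
  exact ⟨F, iF, iFF, by rw [hcard, hTcard]; omega, e⟩

end Cfsg.Agent.DGroupCent
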