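import Cfsg.Agent.Lib.DGroupCent.Local
import Cfsg.Agent.Lib.AutPSL.FieldAut
import Cfsg.Agent.Lib.AutPSLOuter.Outer
import Cfsg.Agent.Lib.G2OddInvol.Class

/-!
# A known simple normal subgroup with trivial centraliser under `Loc`: `PSL₂(q)` or `PGL₂(q)`

Every involution is inner-diagonal (a field one centralises an inner four group), the involutions generate
the Sylow 2-subgroups and `C(z)`, and the class of `z` is that of the inner-diagonal part.
-/

set_option autoImplicit false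
set_option linter.style.haveILetI false
set_option linter.unusedSectionVars false

namespace Cfsg.Agent.DGroupCent

open Subgroup Matrix

universe u

section Two

variable {F : Type*} [Field F] [Fintype F]

local notation "SL2" => Matrix.SpecialLinearGroup (Fin 2) F
local notation "PSL2'" => Matrix.ProjectiveSpecialLinearGroup (Fin 2) F
local notation "GL2" => GL (Fin 2) F

omit [Fintype F] in
/-- In dimension two inverse-transpose is inner. -/
theorem invP_eq_conjP : ∃ g₀ : GL2, (AutPSL.invP : MulAut PSL2') = AutPSL.conjP g₀ := by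
  let J : GL2 := Matrix.GeneralLinearGroup.mkOfDetNeZero !![0, 1; -1, 0] (by simp [Matrix.det_fin_two])
  refine ⟨J, AutPSL.mulAut_ext_xel fun i j hij t => ?_⟩
  rw [AutPSL.xel, AutPSL.invP_mk, AutPSL.conjP_mk]
  refine congrArg QuotientGroup.mk (Subtype.ext ?_)
  have key : (AutPSL.invT (Matrix.SpecialLinearGroup.transvection hij t)).1 * J.val =
      J.val * (Matrix.SpecialLinearGroup.transvection hij t).1 := by
    rw [AutPSL.invT_coe, Matrix.SpecialLinearGroup.transvection_inv,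
      Matrix.SpecialLinearGroup.transvection_coe, Matrix.SpecialLinearGroup.transvection_coe]
    ext a b
    simp only [Matrix.mul_apply, Fin.sum_univ_two, Matrix.transpose_apply, Matrix.add_apply, Matrix.one_apply,
      Matrix.single_apply]
    fin_cases i <;> fin_cases j <;> fin_cases a <;> fin_cases b <;> simp [J] at hij ⊢
  rw [AutPSL.conjSL_coe, ← key, Matrix.mul_assoc, Units.mul_inv, Matrix.mul_one]

/-- Automorphisms of `PSL₂`. -/
theorem exists_conjP_fieldP (β : MulAut PSL2') :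
    ∃ (g : GL2) (σ : F ≃+* F), β = AutPSL.conjP g * AutPSL.fieldP σ := by
  obtain ⟨g, σ, γ, hγ, rfl⟩ := AutPSL.exists_decomposition (m := 1) le_rfl β
  rcases hγ with rfl | rfl
  · exact ⟨g, σ, mul_one _⟩
  · obtain ⟨g₀, hg₀⟩ := invP_eq_conjP (F := F)
    exact ⟨g * FieldExt.glMap σ g₀, σ, by
      rw [hg₀, mul_assoc, AutPSL.fieldP_mul_conjP, ← mul_assoc, map_mul]⟩

/-- Two commuting involutions of `PSL₂` fixed by every field automorphism. -/
theorem exists_four_fixed (h2 : (2 : F) ≠ 0) (σ : F ≃+* F) :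
    ∃ p q : PSL2', orderOf p = 2 ∧ orderOf q = 2 ∧ p ≠ q ∧ Commute p q ∧
      AutPSL.fieldP σ p = p ∧ AutPSL.fieldP σ q = q := by
  obtain ⟨ℓ, hℓ⟩ := CharP.exists F
  haveI := hℓ
  haveI : Fact ℓ.Prime := ⟨CharP.char_is_prime F ℓ⟩
  obtain ⟨a, b, hab⟩ := CharP.sq_add_sq F ℓ (-1)
  push_cast at hab
  let w : SL2 := ⟨!![0, 1; -1, 0], by simp [Matrix.det_fin_two]⟩
  let M : SL2 := ⟨!![(a : F), b; b, -a], by simp [Matrix.det_fin_two]; linear_combination -hab⟩
  let m1 : SL2 := ⟨!![-1, 0; 0, -1], by simp [Matrix.det_fin_two]⟩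
  have hm1 : m1 ∈ Subgroup.center SL2 := by
    rw [Subgroup.mem_center_iff]
    intro g
    apply Subtype.ext
    rw [Matrix.SpecialLinearGroup.coe_mul, Matrix.SpecialLinearGroup.coe_mul]
    ext i j
    fin_cases i <;> fin_cases j <;> simp [m1, Matrix.mul_apply, Fin.sum_univ_two]
  have hww : w * w = m1 := Subtype.ext (by
    rw [Matrix.SpecialLinearGroup.coe_mul]
    ext i j
    fin_cases i <;> fin_cases j <;> simp [w, m1, Matrix.mul_apply, Fin.sum_univ_two])
  have hMM : M * M = m1 := Subtype.ext (by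
    rw [Matrix.SpecialLinearGroup.coe_mul]
    ext i j
    fin_cases i <;> fin_cases j <;> simp [M, m1, Matrix.mul_apply, Fin.sum_univ_two] <;>
      first
      | linear_combination hab
      | ring)
  have hwM : w * M = M * w * m1 := Subtype.ext (by
    rw [Matrix.SpecialLinearGroup.coe_mul, Matrix.SpecialLinearGroup.coe_mul, Matrix.SpecialLinearGroup.coe_mul]
    ext i j
    fin_cases i <;> fin_cases j <;> simp [w, M, m1, Matrix.mul_apply, Fin.sum_univ_two])
  have hone : (QuotientGroup.mk m1 : PSL2') = 1 := (QuotientGroup.eq_one_iff m1).2 hm1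
  have hw1 : (QuotientGroup.mk w : PSL2') ≠ 1 := fun h => by
    obtain ⟨c, hc⟩ := AutPSL.exists_smul_of_mk_eq (g := w) (h := 1) h
    have h01 := congrFun (congrFun hc 0) 1
    simp [w] at h01
  have hM1 : (QuotientGroup.mk M : PSL2') ≠ 1 := fun h => by
    obtain ⟨c, hc⟩ := AutPSL.exists_smul_of_mk_eq (g := M) (h := 1) h
    have h00 := congrFun (congrFun hc 0) 0
    have h11 := congrFun (congrFun hc 1) 1
    have h01 := congrFun (congrFun hc 0) 1
    simp [M] at h00 h11 h01
    have ha : (a : F) = 0 := by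
      have h : (2 : F) * a = 0 := by linear_combination h00 - h11
      exact (mul_eq_zero.1 h).resolve_left h2
    rw [ha, h01] at hab
    norm_num at hab
  have hne : (QuotientGroup.mk w : PSL2') ≠ QuotientGroup.mk M := fun h => by
    obtain ⟨c, hc⟩ := AutPSL.exists_smul_of_mk_eq (g := w) (h := M) h
    have h00 := congrFun (congrFun hc 0) 0
    have h01 := congrFun (congrFun hc 0) 1
    have h10 := congrFun (congrFun hc 1) 0
    simp [w, M] at h00 h01 h10
    exact h2 (by linear_combination h01 - h10)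
  refine ⟨QuotientGroup.mk w, QuotientGroup.mk M, order_of_mul_self ?_ hw1, order_of_mul_self ?_ hM1, hne,
    ?_, ?_, ?_⟩
  · rw [← QuotientGroup.mk_mul, hww, hone]
  · rw [← QuotientGroup.mk_mul, hMM, hone]
  · show (QuotientGroup.mk w : PSL2') * QuotientGroup.mk M = _
    rw [← QuotientGroup.mk_mul, hwM, QuotientGroup.mk_mul, hone, mul_one, QuotientGroup.mk_mul]
  · rw [AutPSL.fieldP_mk]
    refine congrArg QuotientGroup.mk (Subtype.ext ?_)
    rw [AutPSL.fieldSL_coe]
    ext i j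
    fin_cases i <;> fin_cases j <;> simp [w]
  · rw [AutPSL.fieldP_mk]
    refine congrArg QuotientGroup.mk (Subtype.ext ?_)
    rw [AutPSL.fieldSL_coe]
    ext i j
    fin_cases i <;> fin_cases j <;> simp [M]

/-- An involutory automorphism outside `PGL₂` fixes a four group. -/
theorem exists_four_fixed_of_involution (h2 : (2 : F) ≠ 0) {β : MulAut PSL2'} (hβ : β * β = 1)
    (hout : β ∉ (AutPSL.conjP : GL2 →* MulAut PSL2').range) :
    ∃ p q : PSL2', orderOf p = 2 ∧ orderOf q = 2 ∧ p ≠ q ∧ Commute p q ∧ β p = p ∧ β q = q := by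
  haveI : Fact (Nat.Prime 2) := ⟨Nat.prime_two⟩
  obtain ⟨g, σ, rfl⟩ := exists_conjP_fieldP β
  have hσ1 : σ ≠ 1 := fun h => hout ⟨g, by rw [h, AutPSL.fieldP_one, mul_one]⟩
  have hpow : (AutPSL.conjP g * AutPSL.fieldP σ : MulAut PSL2') ^ 2 = 1 := by rw [pow_two, hβ]
  have hσ2 : orderOf σ = 2 := by
    refine orderOf_eq_prime ?_ hσ1
    have h := hpow
    rw [AutPSL.conjP_mul_fieldP_pow, mul_eq_one_iff_eq_inv', ← map_inv] at h
    exact AutPSL.fieldP_eq_conjP le_rfl h
  obtain ⟨k, hk⟩ := AutPSL.lang_field le_rfl σ hσ2 g hpow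
  obtain ⟨p, q, hp, hq, hpq, hc, hfp, hfq⟩ := exists_four_fixed h2 σ
  refine ⟨AutPSL.conjP k p, AutPSL.conjP k q, by rw [MulEquiv.orderOf_eq, hp],
    by rw [MulEquiv.orderOf_eq, hq], fun h => hpq ((AutPSL.conjP k).injective h), ?_, ?_, ?_⟩
  · exact hc.map (AutPSL.conjP k).toMonoidHom
  · rw [hk, MulAut.mul_apply, MulAut.mul_apply, MulAut.inv_def, MulEquiv.symm_apply_apply, hfp]
  · rw [hk, MulAut.mul_apply, MulAut.mul_apply, MulAut.inv_def, MulEquiv.symm_apply_apply, hfq]

end Two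

variable {X : Type u} [Group X] [Finite X]

/-- **The X-level conclusion.** -/
theorem Loc.known {z : X} {B : Subgroup X} (L : Loc z B) (hd : GW.SubDihedral X) (E : Subgroup X)
    [E.Normal] [IsSimpleGroup E] (hk : GW.IsKnown E) (hC : centralizer (E : Set X) = ⊥) :
    ∃ (F : Type) (_ : Field F) (_ : Fintype F), 3 < Fintype.card F ∧
      (Nonempty (X ≃* ProjectiveSpecialLinearGroup (Fin 2) F) ∨
        Nonempty (X ≃* ProjGenLinGroup (Fin 2) F)) := by
  haveI : Fact (Nat.Prime 2) := ⟨Nat.prime_two⟩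
  rcases id hk with ⟨F, iF, iFF, hodd, h3, ⟨e⟩⟩ | ⟨⟨e⟩⟩
  swap
  · exact (L.not_altSeven hd E hk e).elim
  refine ⟨F, iF, iFF, h3, ?_⟩
  have h2 : (2 : F) ≠ 0 := fun h0 => by
    haveI : CharP F 2 := CharTwo.of_one_ne_zero_of_two_eq_zero one_ne_zero h0
    have := FiniteField.even_card_of_char_two (ringChar.eq F 2)
    rw [Nat.odd_iff] at hodd
    omega
  set Φ : X →* MulAut (ProjectiveSpecialLinearGroup (Fin 2) F) :=
    (MulAut.congr e).toMonoidHom.comp MulAut.conjNormal with hΦdef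
  have hΦ : Function.Injective Φ := by
    refine (MulAut.congr e).injective.comp ?_
    refine (injective_iff_map_eq_one _).2 fun a ha => mem_bot.1 (hC ▸ mem_centralizer_iff.2 fun y hy => ?_)
    have h1 := congrArg Subtype.val (MulEquiv.congr_fun ha ⟨y, hy⟩)
    simp only [MulAut.conjNormal_apply, MulAut.one_apply] at h1
    exact (mul_inv_eq_iff_eq_mul.1 h1).symm
  have hΦapp : ∀ (a : X) (w : E), (Φ a) (e w) = e (MulAut.conjNormal a w) := fun a w => by
    show e (MulAut.conjNormal a (e.symm (e w))) = _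
    rw [e.symm_apply_apply]
  have hΦE : ∀ a : E, Φ (a : X) = MulAut.conj (e a) := fun a => MulEquiv.ext fun w => by
    obtain ⟨w, rfl⟩ := e.surjective w
    rw [hΦapp, MulAut.conj_apply, ← map_inv, ← map_mul, ← map_mul]
    refine congrArg e (Subtype.ext ?_)
    rw [MulAut.conjNormal_apply]
    push_cast
    rfl
  set R := (AutPSL.conjP : GL (Fin 2) F →* MulAut (ProjectiveSpecialLinearGroup (Fin 2) F)).range with hR
  haveI : R.Normal := AutPSLOuter.range_conjP_normal (m := 1) le_rfl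
  set X₀ := R.comap Φ with hX₀
  haveI hX₀n : X₀.Normal := (inferInstance : R.Normal).comap Φ
  have hEX₀ : E ≤ X₀ := fun a ha =>
    AutPSLOuter.inn_le_range (m := 1) ⟨e ⟨a, ha⟩, (hΦE ⟨a, ha⟩).symm⟩
  -- the involutions
  have hinvol : ∀ y : X, y * y = 1 → y ∈ X₀ := by
    intro y hy
    by_contra hyn
    obtain ⟨p, q, hp, hq, hpq, hcomm, hfp, hfq⟩ := exists_four_fixed_of_involution h2
      (β := Φ y) (by rw [← map_mul, hy, map_one]) hyn
    have hfix : ∀ w, (Φ y) w = w → Commute y ((e.symm w : E) : X) := fun w hw => by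
      refine mul_inv_eq_iff_eq_mul.1 ?_
      rw [← MulAut.conjNormal_apply]
      refine congrArg Subtype.val (e.injective ?_)
      rw [← hΦapp, e.apply_symm_apply, hw]
    obtain ⟨V, hV, hVE, hpV, hqV⟩ := GW.exists_four_of_commute (a := ((e.symm p : E) : X))
      (b := ((e.symm q : E) : X)) (by rw [Subgroup.orderOf_coe, MulEquiv.orderOf_eq, hp])
      (by rw [Subgroup.orderOf_coe, MulEquiv.orderOf_eq, hq])
      ((hcomm.map e.symm.toMonoidHom).map E.subtype).eq
      (fun h => hpq (e.symm.injective (Subtype.ext h))) (L := E) (e.symm p).2 (e.symm q).2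
    haveI := hV
    have hy1 : y ≠ 1 := fun h => hyn (h ▸ one_mem X₀)
    refine hyn (hEX₀ (hVE (hd.mem_four V
      (IsPGroup.of_card (n := 1) (by rw [Nat.card_zpowers, order_of_mul_self hy hy1, pow_one])) ?_)))
    -- `y` centralises the two generators
    obtain ⟨hp2, hq2⟩ : orderOf ((e.symm p : E) : X) = 2 ∧ orderOf ((e.symm q : E) : X) = 2 :=
      ⟨by rw [Subgroup.orderOf_coe, MulEquiv.orderOf_eq, hp], by rw [Subgroup.orderOf_coe, MulEquiv.orderOf_eq, hq]⟩
    have hpair : GW.Pair ((e.symm p : E) : X) ((e.symm q : E) : X) :=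
      ⟨hp2, hq2, ((hcomm.map e.symm.toMonoidHom).map E.subtype).eq,
        fun h => hpq (e.symm.injective (Subtype.ext h))⟩
    have hVeq : hpair.four = V := eq_of_le_of_card_ge (hpair.four_le hpV hqV) (by
      obtain ⟨W, hW, hWle, -, -⟩ := GW.exists_four_of_commute hp2 hq2 hpair.comm hpair.ne
        (L := hpair.four) hpair.left_mem hpair.right_mem
      rw [hV.card_four, ← hW.card_four]
      exact card_le_of_le hWle)
    refine mem_centralizer_iff.2 fun v hv => ?_
    rw [SetLike.mem_coe, ← hVeq, hpair.mem_four] at hv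
    rcases hv with rfl | rfl | rfl | rfl
    · rw [one_mul, mul_one]
    · exact (hfix p hfp).eq.symm
    · exact (hfix q hfq).eq.symm
    · exact ((hfix p hfp).mul_right (hfix q hfq)).eq.symm
  have hCX₀ : ∀ x, Commute x z → x ∈ X₀ := by
    intro x hx
    by_cases hxB : x ∈ B
    · obtain ⟨w, hw, hwB⟩ := L.ne
      have hwx : w * x ∉ B := fun h => hwB ((B.mul_mem_cancel_right hxB).1 h)
      exact (X₀.mul_mem_cancel_left (hinvol w (L.sq w hw hwB))).1
        (hinvol _ (L.sq _ (hw.mul_left hx) hwx))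
    · exact hinvol x (L.sq x hx hxB)
  have hSX₀ : ∀ (S : Sylow 2 X) (n : ℕ) (φ : DihedralGroup n →* X), DihedralSylow.Embeds S φ → NeZero n →
      (S : Subgroup X) ≤ X₀ := by
    intro S n φ hφ _ s hs
    obtain ⟨d, rfl⟩ := hφ.exists_preimage hs
    have hsr : ∀ i, φ (DihedralGroup.sr i) ∈ X₀ := fun i =>
      hinvol _ (by rw [← map_mul, sr_sq, map_one])
    rcases sr_cases d with ⟨i, rfl⟩ | ⟨i, j, rfl⟩
    · exact hsr i
    · rw [map_mul]; exact mul_mem (hsr i) (hsr j)
  have htop : ∀ x : X, x ∈ X₀ := by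
    intro x
    set y := x * z * x⁻¹ with hy
    have hy2 : orderOf y = 2 := (order_conj x z).trans L.ord
    have hfin : ∀ g ∈ X₀, g * y * g⁻¹ = z → x ∈ X₀ := fun g hg hgy => by
      refine (X₀.mul_mem_cancel_left hg).1 (hCX₀ _ (mul_inv_eq_iff_eq_mul.1 ?_))
      exact (show g * x * z * (g * x)⁻¹ = g * y * g⁻¹ by rw [hy]; group).trans hgy
    by_cases hzE : z ∈ E
    · obtain ⟨c, hc⟩ := isConj_iff.1 (GW.isConj_invol_of_simple (hd.subgroup E) hk.not_comm hk.even_card
        (a := ⟨y, (inferInstance : E.Normal).conj_mem z hzE x⟩) (b := ⟨z, hzE⟩)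
        (by rw [Subgroup.orderOf_mk, hy2]) (by rw [Subgroup.orderOf_mk, L.ord]))
      exact hfin c (hEX₀ c.2) (congrArg Subtype.val hc)
    · have hyE : y ∉ E := fun h => hzE (by
        have := (inferInstance : E.Normal).conj_mem y h x⁻¹
        rwa [hy, inv_inv, show x⁻¹ * (x * z * x⁻¹) * x = z by group] at this)
      obtain ⟨S, n, k, iN, φ, hφ, hn, hnk, hzS, hT, -⟩ := exists_sylow_data hd E hk L.ord
      obtain ⟨S', n', k', iN', φ', hφ', -, -, hyS', -, -⟩ := exists_sylow_data hd E hk hy2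
      have hS := hSX₀ S n φ hφ iN
      have hS' := hSX₀ S' n' φ' hφ' iN'
      obtain ⟨g, hg⟩ := MulAction.exists_smul_eq X₀ (S'.subtype hS') (S.subtype hS)
      have h1 : MulAut.conj g • (⟨y, hS' hyS'⟩ : X₀) ∈ ((S.subtype hS : Sylow 2 X₀) : Subgroup X₀) := by
        rw [← hg]
        exact Subgroup.smul_mem_pointwise_smul _ (MulAut.conj g) _ hyS'
      have hgy : (g : X) * y * (g : X)⁻¹ ∈ (S : Subgroup X) := h1
      have hgyE : (g : X) * y * (g : X)⁻¹ ∉ E := fun h => hyE (by
        have := (inferInstance : E.Normal).conj_mem _ h (g : X)⁻¹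
        rwa [inv_inv, show (g : X)⁻¹ * ((g : X) * y * (g : X)⁻¹) * g = y by group] at this)
      obtain ⟨s, hs, hsy⟩ := exists_conj_outside hφ hnk E hT hgy
        (mul_self_of_order ((order_conj _ _).trans hy2)) hgyE hzS (mul_self_of_order L.ord) hzE
      exact hfin (s * g) (mul_mem (hS hs) g.2) (by rw [← hsy]; group)
  have hrep : ∀ x : X, ∃ g : GL (Fin 2) F, AutPSL.conjP g = Φ x := htop
  -- the elements of square determinant are inner
  have hsquare : ∀ g : GL (Fin 2) F, IsSquare ((GeneralLinearGroup.det g : Fˣ) : F) →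
      ∃ a : E, Φ (a : X) = AutPSL.conjP g := by
    intro g hg
    obtain ⟨r, hr⟩ := hg
    have hr0 : r ≠ 0 := fun h => (GeneralLinearGroup.det g).ne_zero (by rw [hr, h, mul_zero])
    obtain ⟨w, hw⟩ := (AutPSL.conjP_mem_inn_iff (m := 1) le_rfl g).2 ⟨Units.mk0 r hr0, Units.ext (by
      rw [hr, Units.val_pow_eq_pow_val, Units.val_mk0]; ring)⟩
    exact ⟨e.symm w, by rw [hΦE, e.apply_symm_apply]; exact hw⟩
  by_cases hE : E = ⊤
  · left
    exact ⟨(Subgroup.topEquiv.symm.trans (MulEquiv.subgroupCongr hE.symm)).trans e⟩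
  right
  obtain ⟨x₁, hx₁⟩ : ∃ x, x ∉ E := by
    by_contra h
    push Not at h
    exact hE (eq_top_iff' E |>.2 h)
  obtain ⟨g₁, hg₁⟩ := hrep x₁
  have hns₁ : ¬ IsSquare ((GeneralLinearGroup.det g₁ : Fˣ) : F) := fun h => by
    obtain ⟨a, ha⟩ := hsquare g₁ h
    exact hx₁ (hΦ (ha.trans hg₁) ▸ a.2)
  have hrange : Φ.range = R := by
    refine le_antisymm ?_ ?_
    · rintro _ ⟨x, rfl⟩; exact htop x
    rintro _ ⟨g, rfl⟩
    by_cases hsq : IsSquare ((GeneralLinearGroup.det g : Fˣ) : F)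
    · obtain ⟨a, ha⟩ := hsquare g hsq
      exact ⟨a, ha⟩
    · obtain ⟨a, ha⟩ := hsquare (g * g₁) (by
        rw [map_mul, Units.val_mul]; exact G2OddInvol.isSquare_mul_of_not hsq hns₁)
      refine ⟨(a : X) * x₁⁻¹, ?_⟩
      rw [map_mul, map_inv, ha, ← hg₁, map_mul, mul_inv_cancel_right]
  have hker : (AutPSL.conjP : GL (Fin 2) F →* MulAut (ProjectiveSpecialLinearGroup (Fin 2) F)).ker =
      Subgroup.center (GL (Fin 2) F) := by
    ext g
    rw [MonoidHom.mem_ker, AutPSL.conjP_eq_one_iff (m := 1) le_rfl, GeneralLinearGroup.center_eq_range_scalar,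
      MonoidHom.mem_range]
    exact ⟨fun ⟨c, h⟩ => ⟨c, h.symm⟩, fun ⟨c, h⟩ => ⟨c, h.symm⟩⟩
  exact ⟨((MonoidHom.ofInjective hΦ).trans (MulEquiv.subgroupCongr hrange)).trans
    ((QuotientGroup.quotientKerEquivRange _).symm.trans (QuotientGroup.quotientMulEquivOfEq hker))⟩

end Cfsg.Agent.DGroupCent
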