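import Cfsg.Agent.Lib.Transfer.Thompson
import Cfsg.Agent.Lib.Transfer.Residual
import Cfsg.Agent.Lib.PCore.Basic
import Cfsg.Agent.Lib.PGroup.Basic
import Cfsg.Agent.Lib.LocalStructure.WeaklyClosed

/-!
# A D-subgroup containing the centralisers of its central involutions

`Dat H A`: `A` is abelian of index 2 in `H`, inverted by the involutions of `H` outside `A`, not of
exponent 2, and `C(j) = H` for the involutions `j` of `A`.  The Sylow 2-subgroup of `H` is one of `G`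
provided its normaliser keeps the involutions of `A` inside `A`.
-/

set_option autoImplicit false
set_option linter.style.haveILetI false

namespace Cfsg.Agent.DGroupCent

open Subgroup

universe u

variable {G : Type u} [Group G]

/-- A D-group with abelian `A` of index two, being the centraliser of its central involutions. -/
structure Dat (H A : Subgroup G) : Prop where
  le : A ≤ H
  comm : ∀ a ∈ A, ∀ b ∈ A, Commute a b
  inv : ∀ u ∈ H, u ∉ A → ∀ a ∈ A, u * a * u⁻¹ = a⁻¹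
  sq : ∀ u ∈ H, u ∉ A → u * u = 1
  mul : ∀ u ∈ H, u ∉ A → ∀ v ∈ H, v ∉ A → u * v ∈ A
  ne : ∃ u ∈ H, u ∉ A
  four : 4 ∣ Nat.card H
  big : ∃ a ∈ A, a * a ≠ 1
  cent : ∀ j ∈ A, orderOf j = 2 → centralizer ({j} : Set G) = H

theorem mul_self_of_order {j : G} (hj : orderOf j = 2) : j * j = 1 := by
  rw [← pow_two, ← hj, pow_orderOf_eq_one]

theorem inv_of_mul_self {j : G} (hj : j * j = 1) : j⁻¹ = j := inv_eq_of_mul_eq_one_right hj

theorem order_of_mul_self {j : G} (h : j * j = 1) (h1 : j ≠ 1) : orderOf j = 2 :=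
  orderOf_eq_prime (by rw [pow_two, h]) h1

theorem ne_one_of_order_two {j : G} (hj : orderOf j = 2) : j ≠ 1 := fun h => by
  rw [h, orderOf_one] at hj; omega

theorem order_conj (g x : G) : orderOf (g * x * g⁻¹) = orderOf x := by
  rw [← MulAut.conj_apply, MulEquiv.orderOf_eq]

theorem mem_cent {j x : G} : x ∈ centralizer ({j} : Set G) ↔ Commute x j :=
  mem_centralizer_singleton_iff

namespace Dat

variable {H A : Subgroup G} (d : Dat H A)
include d

theorem commute_of_invol {j : G} (hj : j ∈ A) (h2 : j * j = 1) {h : G} (hh : h ∈ H) : Commute h j := by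
  by_cases hA : h ∈ A
  · exact d.comm h hA j hj
  · exact mul_inv_eq_iff_eq_mul.1 (by rw [d.inv h hh hA j hj, inv_of_mul_self h2])

theorem relIndex_eq_two : A.relIndex H = 2 := by
  obtain ⟨u, hu, huA⟩ := d.ne
  refine index_eq_two_iff.2 ⟨⟨u, hu⟩, fun b => ?_⟩
  simp only [mem_subgroupOf, Subgroup.coe_mul]
  by_cases hb : (b : G) ∈ A
  · exact Or.inr ⟨hb, fun h => huA ((A.mul_mem_cancel_left hb).1 h)⟩
  · exact Or.inl ⟨d.mul b b.2 hb u hu huA, hb⟩

theorem card_eq : Nat.card H = Nat.card A * 2 := by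
  have h := card_mul_index (A.subgroupOf H)
  rwa [Nat.card_congr (subgroupOfEquivOfLe d.le).toEquiv, ← relIndex, d.relIndex_eq_two, eq_comm] at h

theorem exists_invol [Finite G] : ∃ j ∈ A, orderOf j = 2 := by
  haveI : Fact (Nat.Prime 2) := ⟨Nat.prime_two⟩
  obtain ⟨c, hc⟩ := d.four
  obtain ⟨j, hj⟩ := exists_prime_orderOf_dvd_card' (G := A) 2 ⟨c, by have := d.card_eq; omega⟩
  exact ⟨j, j.2, by rwa [Subgroup.orderOf_coe]⟩

/-- An involution of `H` outside `A` is conjugate to no involution of `A`, if there are two of the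
latter. -/
theorem not_conj {i₁ i₂ : G} (h1 : i₁ ∈ A) (h1' : orderOf i₁ = 2) (h2 : i₂ ∈ A) (h2' : orderOf i₂ = 2)
    (h12 : i₁ ≠ i₂) {u : G} (hu : u ∈ H) (huA : u ∉ A) {j : G} (hj : j ∈ A) (hj2 : orderOf j = 2)
    (g : G) : g * j * g⁻¹ ≠ u := by
  intro he
  have hback : ∀ x : G, Commute x u → g⁻¹ * x * g ∈ H := by
    intro x hx
    rw [← d.cent j hj hj2, mem_cent]
    have e : j = g⁻¹ * u * g := by rw [← he]; group
    rw [e]
    have h := (Commute.conj_iff g⁻¹).2 hx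
    rwa [inv_inv] at h
  have hH : ∀ k ∈ A, orderOf k = 2 → g * k * g⁻¹ ∈ H := by
    intro k hk hk2
    rw [← d.cent i₁ h1 h1', mem_cent]
    have h3 := hback i₁ (d.commute_of_invol h1 (mul_self_of_order h1') hu).symm
    have h4 := (Commute.conj_iff g).2 (d.commute_of_invol hk (mul_self_of_order hk2) h3)
    rw [show g * (g⁻¹ * i₁ * g) * g⁻¹ = i₁ by group] at h4
    exact h4.symm
  have hout : ∀ k ∈ A, orderOf k = 2 → g * k * g⁻¹ ∉ A := by
    intro k hk hk2 hkA
    obtain ⟨a, ha, ha2⟩ := d.big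
    have h5 : g⁻¹ * a * g ∈ H := by
      rw [← d.cent k hk hk2, mem_cent]
      have h := (Commute.conj_iff g⁻¹).2 (d.comm a ha _ hkA)
      rwa [inv_inv, show g⁻¹ * (g * k * g⁻¹) * g = k by group] at h
    have h6 := (Commute.conj_iff g).2 (d.commute_of_invol hj (mul_self_of_order hj2) h5)
    rw [show g * (g⁻¹ * a * g) * g⁻¹ = a by group, he] at h6
    have h7 := d.inv u hu huA a ha
    rw [← h6.eq, mul_inv_cancel_right] at h7
    exact ha2 (by nth_rewrite 1 [h7]; exact inv_mul_cancel a)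
  have hne : i₁ * i₂ ≠ 1 := fun e => h12 (by
    rw [mul_eq_one_iff_eq_inv, inv_of_mul_self (mul_self_of_order h2')] at e; exact e)
  have h12o : orderOf (i₁ * i₂) = 2 := order_of_mul_self (by
    rw [(d.comm i₂ h2 i₁ h1).mul_mul_mul_comm, mul_self_of_order h1', mul_self_of_order h2', mul_one]) hne
  refine hout _ (mul_mem h1 h2) h12o ?_
  rw [← conj_mul]
  exact d.mul _ (hH _ h1 h1') (hout _ h1 h1') _ (hH _ h2 h2') (hout _ h2 h2')

/-- A Sylow 2-subgroup of `G` inside `H`. -/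
theorem exists_sylow [Finite G]
    (hΩ : ∀ P : Subgroup G, P ≤ H → (∀ a ∈ A, ∀ k : ℕ, a ^ 2 ^ k = 1 → a ∈ P) →
      ∀ x ∈ normalizer (P : Set G), ∀ j ∈ A, orderOf j = 2 → x * j * x⁻¹ ∈ A) :
    ∃ T : Sylow 2 G, (T : Subgroup G) ≤ H ∧ (∃ u ∈ (T : Subgroup G), u ∉ A) ∧
      ∀ a ∈ A, ∀ k : ℕ, a ^ 2 ^ k = 1 → a ∈ (T : Subgroup G) := by
  haveI : Fact (Nat.Prime 2) := ⟨Nat.prime_two⟩
  obtain ⟨u, hu, huA⟩ := d.ne
  have hup : IsPGroup 2 (zpowers (⟨u, hu⟩ : H)) := by
    obtain ⟨k, -, hk⟩ := (Nat.dvd_prime_pow Nat.prime_two).1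
      (orderOf_dvd_of_pow_eq_one (n := 2 ^ 1) (x := (⟨u, hu⟩ : H))
        (Subtype.ext (by simpa [pow_two] using d.sq u hu huA)))
    exact IsPGroup.of_card (n := k) (by rw [Nat.card_zpowers, hk])
  obtain ⟨P₀, hP₀⟩ := hup.exists_le_sylow
  set P := (P₀ : Subgroup H).map H.subtype with hP
  have hPH : P ≤ H := map_subtype_le _
  have hPp : IsPGroup 2 P := P₀.2.map _
  have huP : u ∈ P := ⟨⟨u, hu⟩, hP₀ (mem_zpowers _), rfl⟩
  have hA2 : ∀ a ∈ A, ∀ k : ℕ, a ^ 2 ^ k = 1 → a ∈ P := by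
    intro a ha k hk
    set a' : H := ⟨a, d.le ha⟩
    haveI : (zpowers a').Normal := ⟨fun n hn g => by
      obtain ⟨i, rfl⟩ := mem_zpowers_iff.1 hn
      rw [← conj_zpow]
      refine zpow_mem ?_ i
      by_cases hg : (g : G) ∈ A
      · rw [show g * a' * g⁻¹ = a' from Subtype.ext (mul_inv_eq_iff_eq_mul.2 (d.comm g hg a ha).eq)]
        exact mem_zpowers _
      · rw [show g * a' * g⁻¹ = a'⁻¹ from Subtype.ext (d.inv g g.2 hg a ha)]
        exact inv_mem (mem_zpowers _)⟩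
    have hp : IsPGroup 2 (zpowers a') := by
      obtain ⟨i, -, hi⟩ := (Nat.dvd_prime_pow Nat.prime_two).1
        (orderOf_dvd_of_pow_eq_one (n := 2 ^ k) (x := a') (Subtype.ext (by simpa using hk)))
      exact IsPGroup.of_card (n := i) (by rw [Nat.card_zpowers, hi])
    exact ⟨a', PCore.pCore_le_sylow P₀ (PCore.le_pCore hp (mem_zpowers a')), rfl⟩
  obtain ⟨T, hT⟩ := hPp.exists_le_sylow
  have hTH : (T : Subgroup G) ≤ H := by
    by_contra hne
    have hmax : (T : Subgroup G) ⊓ H ≤ P := by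
      intro x hx
      have h1 : ((T : Subgroup G).subgroupOf H) = (P₀ : Subgroup H) :=
        P₀.3 T.2.comap_subtype fun y hy => mem_subgroupOf.2 (hT ⟨y, hy, rfl⟩)
      exact ⟨⟨x, hx.2⟩, h1 ▸ (mem_subgroupOf.2 hx.1 : (⟨x, hx.2⟩ : H) ∈ (T : Subgroup G).subgroupOf H), rfl⟩
    have hlt : P.subgroupOf (T : Subgroup G) ≠ ⊤ := fun h =>
      hne fun x hx => hPH (subgroupOf_eq_top.1 h hx)
    obtain ⟨⟨x, hxT⟩, hxN, hxP⟩ := SetLike.exists_of_lt (PGroup.lt_normalizer T.2 hlt)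
    have hxN' : x ∈ normalizer (P : Set G) := by
      rw [mem_normalizer_iff]
      intro y
      constructor
      · exact fun hy => mem_subgroupOf.1 ((mem_normalizer_iff.1 hxN ⟨y, hT hy⟩).1 (mem_subgroupOf.2 hy))
      · intro hy
        have hyT : y ∈ (T : Subgroup G) := by
          simpa [mul_assoc] using
            mul_mem (mul_mem (inv_mem hxT) (hT hy)) hxT
        exact mem_subgroupOf.1 ((mem_normalizer_iff.1 hxN ⟨y, hyT⟩).2 (mem_subgroupOf.2 hy))
    let M := (T : Subgroup G) ⊓ normalizer (P : Set G)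
    let Ω : Subgroup G :=
      { carrier := {a | a ∈ A ∧ a * a = 1}
        one_mem' := ⟨one_mem A, one_mul 1⟩
        mul_mem' := fun {a b} ha hb => ⟨mul_mem ha.1 hb.1, by
          rw [(d.comm b hb.1 a ha.1).mul_mul_mul_comm, ha.2, hb.2, mul_one]⟩
        inv_mem' := fun {a} ha => ⟨inv_mem ha.1, by rw [← mul_inv_rev, ha.2, inv_one]⟩ }
    have hΩp : IsPGroup 2 Ω := fun a => ⟨1, Subtype.ext (by simpa [pow_two] using a.2.2)⟩
    have hΩ1 : Ω ≠ ⊥ := fun h => by
      obtain ⟨j, hj, hj2⟩ := d.exists_invol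
      exact ne_one_of_order_two hj2
        (mem_bot.1 (h ▸ (⟨hj, mul_self_of_order hj2⟩ : j ∈ Ω)))
    have hconj : ∀ g ∈ M, ∀ a ∈ Ω, g * a * g⁻¹ ∈ Ω := by
      rintro g hg a ⟨ha, ha2⟩
      refine ⟨?_, by rw [conj_mul, ha2, mul_one, mul_inv_cancel]⟩
      by_cases ha1 : a = 1
      · rw [ha1, mul_one, mul_inv_cancel]; exact one_mem A
      · exact hΩ P hPH hA2 g hg.2 a ha (order_of_mul_self ha2 ha1)
    have hMn : M ≤ normalizer (Ω : Set G) := fun g hg => mem_normalizer_iff.2 fun a =>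
      ⟨hconj g hg a, fun h => by
        have := hconj g⁻¹ (inv_mem hg) _ h
        simpa [mul_assoc] using this⟩
    obtain ⟨⟨j, hjΩ, hjc⟩, hj1⟩ := (ne_bot_iff_exists_ne_one (H := Ω ⊓ centralizer (M : Set G))).1
      (LocalStructure.inf_centralizer_ne_bot hΩp hΩ1 (T.2.to_le inf_le_left) hMn)
    have hj2 := order_of_mul_self hjΩ.2 fun h => hj1 (Subtype.ext h)
    have hxH : x ∈ H := by
      rw [← d.cent j hjΩ.1 hj2, mem_cent]
      exact mem_centralizer_iff.1 hjc x ⟨hxT, hxN'⟩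
    exact hxP (mem_subgroupOf.2 (hmax ⟨hxT, hxH⟩))
  exact ⟨T, hTH, ⟨u, hT huP, huA⟩, fun a ha k hk => hT (hA2 a ha k hk)⟩

end Dat

/-- An index-two normal subgroup meeting a Sylow 2-subgroup `T` in a prescribed maximal subgroup `Q`,
if every element of `T ∖ Q` is an involution with no conjugate in `Q`. -/
theorem exists_index_two [Finite G] (T : Sylow 2 G) (Q : Subgroup G) (hQT : Q ≤ (T : Subgroup G))
    (hQi : Q.relIndex (T : Subgroup G) = 2) (hsq : ∀ v ∈ (T : Subgroup G), v ∉ Q → v * v = 1)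
    (hconj : ∀ v ∈ (T : Subgroup G), v ∉ Q → ∀ g : G, g * v * g⁻¹ ∉ Q) :
    ∃ M : Subgroup G, M.Normal ∧ M.index = 2 ∧ ∀ v ∈ (T : Subgroup G), v ∈ M → v ∈ Q := by
  haveI : Fact (Nat.Prime 2) := ⟨Nat.prime_two⟩
  set R := Cfsg.pResidual 2 G
  haveI hRn : R.Normal := Transfer.pResidual_normal 2
  have hR : ∀ v ∈ (T : Subgroup G), v ∈ R → v ∈ Q := by
    intro v hv hvR
    by_contra hvQ
    obtain ⟨M, hMn, hMi, hvM⟩ := Transfer.exists_index_two_of_involution T Q hQT hQi v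
      (by rw [pow_two]; exact hsq v hv hvQ) hv hvQ (hconj v hv hvQ)
    haveI := hMn
    exact hvM (Transfer.pResidual_le_of_isPGroup_quotient (p := 2) M (IsPGroup.of_card (n := 1) (by
      rw [← Subgroup.index_eq_card, hMi, pow_one])) hvR)
  haveI : (Q.subgroupOf (T : Subgroup G)).Normal := normal_of_index_eq_two hQi
  have hTN : (T : Subgroup G) ≤ normalizer (Q : Set G) := (normal_subgroupOf_iff_le_normalizer hQT).1 inferInstance
  have hsup : (T : Subgroup G) ⊔ R = ⊤ := Transfer.sylow_sup_pResidual_eq_top T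
  set M := Q ⊔ R
  have hmem : ∀ v ∈ (T : Subgroup G), v ∈ M → v ∈ Q := by
    intro v hv hvM
    obtain ⟨q, hq, r, hr, rfl⟩ := Set.mem_mul.1 ((Subgroup.mul_normal Q R).symm ▸ (SetLike.mem_coe.2 hvM))
    exact mul_mem hq (hR r (by simpa using mul_mem (inv_mem (hQT hq)) hv) hr)
  have hMn : M.Normal := by
    rw [← normalizer_eq_top_iff, eq_top_iff, ← hsup]
    refine sup_le (fun t ht => ?_) (le_sup_right.trans le_normalizer)
    have h1 : t ∈ normalizer (Q : Set G) ⊓ normalizer (R : Set G) :=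
      ⟨hTN ht, by rw [normalizer_eq_top (H := R)]; exact mem_top t⟩
    exact normalizer_inf_normalizer_le_normalizer_sup _ _ h1
  haveI := hMn
  obtain ⟨v, hv, hvQ⟩ : ∃ v ∈ (T : Subgroup G), v ∉ Q := by
    by_contra h
    push Not at h
    rw [relIndex_eq_one.2 (show (T : Subgroup G) ≤ Q from h)] at hQi
    omega
  refine ⟨M, hMn, index_eq_two_iff.2 ⟨v, fun b => ?_⟩, hmem⟩
  have hvM : v ∉ M := fun h => hvQ (hmem v hv h)
  obtain ⟨t, ht, r, hr, rfl⟩ : ∃ t ∈ (T : Subgroup G), ∃ r ∈ R, t * r = b := by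
    have : b ∈ (((T : Subgroup G) ⊔ R : Subgroup G) : Set G) := by rw [hsup]; exact mem_top b
    rw [Subgroup.mul_normal] at this
    exact Set.mem_mul.1 this
  have hrM : r ∈ M := mem_sup_right hr
  by_cases htQ : t ∈ Q
  · refine Or.inr ⟨mul_mem (mem_sup_left htQ) hrM, fun h => hvM ?_⟩
    exact (M.mul_mem_cancel_left (mul_mem (mem_sup_left htQ) hrM)).1 h
  · refine Or.inl ⟨?_, fun h => htQ (hmem t ht ((M.mul_mem_cancel_right hrM).1 h))⟩
    have htv : t * v ∈ Q := by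
      have := (mul_mem_iff_of_index_two hQi (a := (⟨t, ht⟩ : (T : Subgroup G))) (b := ⟨v, hv⟩)).2
        (by simp [mem_subgroupOf, htQ, hvQ])
      exact mem_subgroupOf.1 this
    rw [show t * r * v = t * v * (v⁻¹ * r * v) by group]
    exact mul_mem (mem_sup_left htv) (mem_sup_right (by simpa using hRn.conj_mem r hr v⁻¹))

end Cfsg.Agent.DGroupCent
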