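import Cfsg.Agent.Lib.DGroupCent.Dihedral
import Cfsg.Agent.Lib.DGroupCent.AltSeven
import Cfsg.Agent.Lib.DGroupCent.Setup
import Cfsg.Agent.Lib.GW.CompCent
import Cfsg.Agent.Lib.GW.KFacts
import Cfsg.Agent.Lib.GW.NoFixedDichotomy
import Cfsg.Agent.S0514

/-!
# An involution with a generalised dihedral centraliser over a known simple normal subgroup

`Loc z B`: outside the abelian subgroup `B ∋ z`, which has no other involution, the elements of `C(z)`
are involutions inverting `B`.  Here the facts about a Sylow 2-subgroup through a given involution and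
the exclusion of `A₇`.
-/

set_option autoImplicit false
set_option linter.style.haveILetI false

namespace Cfsg.Agent.DGroupCent

open Subgroup

universe u

variable {X : Type u} [Group X]

/-- The centraliser of `z` is a D-group over `B` with one involution in `B`. -/
structure Loc (z : X) (B : Subgroup X) : Prop where
  ord : orderOf z = 2
  mem : z ∈ B
  comm : ∀ a ∈ B, ∀ b ∈ B, Commute a b
  sq : ∀ x, Commute x z → x ∉ B → x * x = 1
  inv : ∀ x, Commute x z → x ∉ B → ∀ a ∈ B, x * a * x⁻¹ = a⁻¹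
  uniq : ∀ a ∈ B, a * a = 1 → a = 1 ∨ a = z
  ne : ∃ x, Commute x z ∧ x ∉ B

/-- An element of `C(z)` commuting with another involution of `C(z)` has square one. -/
theorem Loc.mul_self_eq_one {z : X} {B : Subgroup X} (L : Loc z B) {y v : X} (hy : Commute y z)
    (hv : Commute v z) (hv2 : orderOf v = 2) (hvz : v ≠ z) (hyv : Commute y v) : y * y = 1 := by
  by_cases hyB : y ∈ B
  · have hvB : v ∉ B := fun h => (L.uniq v h (mul_self_of_order hv2)).elim (ne_one_of_order_two hv2) hvz
    have h := L.inv v hv hvB y hyB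
    rw [← hyv.eq, mul_inv_cancel_right] at h
    nth_rewrite 1 [h]
    exact inv_mul_cancel y
  · exact L.sq y hy hyB

variable [Finite X]

/-- An element of odd order of square one is trivial. -/
theorem eq_one_of_odd {y : X} (hy : Odd (orderOf y)) (h : y * y = 1) : y = 1 := by
  obtain ⟨k, hk⟩ := hy
  have := pow_orderOf_eq_one y
  rwa [hk, pow_succ, pow_mul, pow_two, h, one_pow, one_mul] at this

/-- A Sylow 2-subgroup through an involution, the trace of a known simple normal subgroup on it. -/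
theorem exists_sylow_data (hd : GW.SubDihedral X) (E : Subgroup X) [E.Normal] [IsSimpleGroup E]
    (hk : GW.IsKnown E) {y : X} (hy : orderOf y = 2) :
    ∃ (S : Sylow 2 X) (n k : ℕ) (_ : NeZero n) (φ : DihedralGroup n →* X),
      DihedralSylow.Embeds S φ ∧ 2 ≤ n ∧ n = 2 ^ k ∧ y ∈ (S : Subgroup X) ∧ ¬ IsCyclic (E.comap φ) ∧
      ∀ P : Subgroup X, IsPGroup 2 P → P ≤ E → Nat.card P ∣ Nat.card (E.comap φ) := by
  haveI : Fact (Nat.Prime 2) := ⟨Nat.prime_two⟩
  obtain ⟨S, hS⟩ := (IsPGroup.of_card (p := 2) (n := 1) (G := zpowers y)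
    (by rw [Nat.card_zpowers, hy, pow_one])).exists_le_sylow
  obtain ⟨R⟩ : Nonempty (Sylow 2 E) := inferInstance
  have hRnc : ¬ IsCyclic (R : Subgroup E) := fun hc =>
    GW.not_complement_of_simple hk.not_comm hk.even_card (GW.hasNormalPComplement_of_cyclic_two R hc)
  -- every 2-subgroup of `E` embeds into `S ⊓ E`
  have hmove : ∀ P : Subgroup X, IsPGroup 2 P → P ≤ E →
      ∃ g : X, P.map (MulAut.conj g).toMonoidHom ≤ (S : Subgroup X) ⊓ E := by
    intro P hP hPE
    obtain ⟨P', hP'⟩ := hP.exists_le_sylow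
    obtain ⟨g, hg⟩ := MulAction.exists_smul_eq X P' S
    refine ⟨g, ?_⟩
    rintro _ ⟨p, hp, rfl⟩
    refine ⟨?_, (inferInstance : E.Normal).conj_mem p (hPE hp) g⟩
    rw [← hg, Sylow.coe_subgroup_smul]
    exact Subgroup.smul_mem_pointwise_smul p (MulAut.conj g) _ (hP' hp)
  rcases hd S with hc | ⟨n, hn, ⟨e⟩⟩
  · exfalso
    obtain ⟨g, hg⟩ := hmove ((R : Subgroup E).map E.subtype) (R.2.map _) (map_subtype_le _)
    haveI := hc
    haveI : IsCyclic ((S : Subgroup X) ⊓ E : Subgroup X) := Subgroup.isCyclic_of_le inf_le_left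
    haveI : IsCyclic (((R : Subgroup E).map E.subtype).map (MulAut.conj g).toMonoidHom) :=
      Subgroup.isCyclic_of_le hg
    exact hRnc ((((R : Subgroup E).equivMapOfInjective E.subtype E.subtype_injective).trans
      (((R : Subgroup E).map E.subtype).equivMapOfInjective _ (MulAut.conj g).injective)).isCyclic.2 ‹_›)
  haveI : NeZero n := ⟨by omega⟩
  obtain ⟨k, hk2⟩ := DihedralSylow.exists_two_pow e
  obtain ⟨φ, hφ⟩ := DihedralSylow.exists_embeds e
  have hmap : (E.comap φ).map φ = (S : Subgroup X) ⊓ E := by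
    rw [map_comap_eq, hφ.range]
  have hcard : Nat.card (E.comap φ) = Nat.card ((S : Subgroup X) ⊓ E : Subgroup X) := by
    rw [← hmap, card_map_of_injective hφ.inj]
  refine ⟨S, n, k, inferInstance, φ, hφ, hn, hk2, hS (mem_zpowers y), fun hc => ?_, fun P hP hPE => ?_⟩
  · obtain ⟨g, hg⟩ := hmove ((R : Subgroup E).map E.subtype) (R.2.map _) (map_subtype_le _)
    haveI : IsCyclic ((E.comap φ).map φ) := ((E.comap φ).equivMapOfInjective φ hφ.inj).isCyclic.1 hc
    haveI : IsCyclic (((R : Subgroup E).map E.subtype).map (MulAut.conj g).toMonoidHom) :=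
      Subgroup.isCyclic_of_le (hmap ▸ hg)
    exact hRnc ((((R : Subgroup E).equivMapOfInjective E.subtype E.subtype_injective).trans
      (((R : Subgroup E).map E.subtype).equivMapOfInjective _ (MulAut.conj g).injective)).isCyclic.2 ‹_›)
  · obtain ⟨g, hg⟩ := hmove P hP hPE
    have := card_dvd_of_le hg
    rwa [card_map_of_injective (MulAut.conj g).injective, ← hcard] at this

/-- Involutions in a normal noncyclic trace are conjugate outside it. -/
theorem exists_conj_outside {S : Sylow 2 X} {n k : ℕ} [NeZero n] {φ : DihedralGroup n →* X}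
    (hφ : DihedralSylow.Embeds S φ) (hnk : n = 2 ^ k) (E : Subgroup X) [E.Normal]
    (hT : ¬ IsCyclic (E.comap φ)) {a b : X} (ha : a ∈ (S : Subgroup X)) (ha2 : a * a = 1) (haE : a ∉ E)
    (hb : b ∈ (S : Subgroup X)) (hb2 : b * b = 1) (hbE : b ∉ E) :
    ∃ s ∈ (S : Subgroup X), s * a * s⁻¹ = b := by
  obtain ⟨p, rfl⟩ := hφ.exists_preimage ha
  obtain ⟨q, rfl⟩ := hφ.exists_preimage hb
  obtain ⟨s, hs⟩ := exists_conj_of_not_mem (E.comap φ) hT hnk (p := p) (q := q)
    (hφ.inj (by rw [map_mul, ha2, map_one])) haE (hφ.inj (by rw [map_mul, hb2, map_one])) hbE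
  exact ⟨φ s, hφ.mem s, by rw [← hs, map_mul, map_mul, map_inv]⟩

/-- The simple normal subgroup is not `A₇`. -/
theorem Loc.not_altSeven {z : X} {B : Subgroup X} (L : Loc z B) (hd : GW.SubDihedral X)
    (E : Subgroup X) [E.Normal] [IsSimpleGroup E] (hk : GW.IsKnown E)
    (e : E ≃* alternatingGroup (Fin 7)) : False := by
  haveI : Fact (Nat.Prime 2) := ⟨Nat.prime_two⟩
  obtain ⟨t₀, d₀, v₀, ht₀, hd₀, hv₀, hvt, htd, htv, hdv⟩ := alt_seven_triple
  -- every involution of `E` has such companions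
  have htriple : ∀ t ∈ E, orderOf t = 2 → ∃ d ∈ E, ∃ v ∈ E, orderOf d = 3 ∧ orderOf v = 2 ∧ v ≠ t ∧
      Commute t d ∧ Commute t v ∧ Commute d v := by
    intro t htE ht
    obtain ⟨c, hc⟩ := isConj_iff.1 (GW.isConj_invol_of_simple (hd.subgroup E) hk.not_comm hk.even_card
      (a := e.symm t₀) (b := ⟨t, htE⟩) (by rw [MulEquiv.orderOf_eq, ht₀]) (by rw [Subgroup.orderOf_mk, ht]))
    let f : alternatingGroup (Fin 7) →* X :=
      E.subtype.comp ((MulAut.conj c).toMonoidHom.comp e.symm.toMonoidHom)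
    have hf : Function.Injective f :=
      E.subtype_injective.comp ((MulAut.conj c).injective.comp e.symm.injective)
    have hft : f t₀ = t := congrArg Subtype.val hc
    refine ⟨f d₀, (c * e.symm d₀ * c⁻¹ : E).2, f v₀, (c * e.symm v₀ * c⁻¹ : E).2, ?_, ?_, ?_, ?_, ?_, ?_⟩
    · rw [orderOf_injective f hf, hd₀]
    · rw [orderOf_injective f hf, hv₀]
    · exact fun h => hvt (hf (h.trans hft.symm))
    · rw [← hft]; exact (show Commute t₀ d₀ from htd).map f
    · rw [← hft]; exact (show Commute t₀ v₀ from htv).map f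
    · exact (show Commute d₀ v₀ from hdv).map f
  by_cases hzE : z ∈ E
  · obtain ⟨d, -, v, -, hd3, hv2, hvz, hzd, hzv, hdv⟩ := htriple z hzE L.ord
    have h := L.mul_self_eq_one hzd.symm hzv.symm hv2 hvz hdv
    have h1 := eq_one_of_odd (by rw [hd3]; decide) h
    rw [h1, orderOf_one] at hd3
    omega
  obtain ⟨S, n, k, iN, φ, hφ, hn, hnk, hzS, hT, hbig⟩ := exists_sylow_data hd E hk L.ord
  set T := E.comap φ with hTdef
  have h8E : 8 ∣ Nat.card E := by
    rw [Nat.card_congr e.toEquiv, nat_card_alternatingGroup, Nat.card_fin]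
    decide
  have h8T : 8 ∣ Nat.card T := by
    obtain ⟨P, hP⟩ := Sylow.exists_subgroup_card_pow_prime (G := E) 2 (n := 3) (by simpa using h8E)
    have h := hbig (P.map E.subtype) ((IsPGroup.of_card hP).map _) (map_subtype_le _)
    rwa [card_map_of_injective E.subtype_injective, hP] at h
  obtain ⟨p₀, hp₀⟩ := hφ.exists_preimage hzS
  have hp₀2 : p₀ * p₀ = 1 := hφ.inj (by rw [map_mul, hp₀, mul_self_of_order L.ord, map_one])
  have hp₀T : p₀ ∉ T := fun h => hzE (hp₀ ▸ h)
  obtain ⟨i, rfl⟩ := exists_sr_of_not_mem T hT hnk hp₀2 hp₀T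
  -- `8 ∣ n`
  have hn8 : 8 ∣ n := by
    have h1 := T.card_mul_index
    rw [DihedralGroup.nat_card] at h1
    have h2 : 2 ≤ T.index := by
      have := T.one_lt_index_of_ne_top fun h => hp₀T (h ▸ mem_top _)
      omega
    obtain ⟨c, hc⟩ := h8T
    have hc0 : 1 ≤ c := by
      have := Nat.card_pos (α := T)
      omega
    have hn8' : 8 ≤ n := by nlinarith
    have hk3 : 3 ≤ k := by
      by_contra hk3
      have : n ≤ 2 ^ 2 := hnk ▸ Nat.pow_le_pow_right (by norm_num) (by omega)
      omega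
    rw [hnk]
    exact pow_dvd_pow 2 hk3
  obtain ⟨q, hq⟩ := hn8
  set b : ZMod n := 2 * (q : ZMod n) with hb
  have hbb : b + b + (b + b) = 0 := by
    have : ((8 * q : ℕ) : ZMod n) = 0 := hq ▸ ZMod.natCast_self _
    push_cast at this
    rw [hb]; linear_combination this
  have hbb' : b + b ≠ 0 := by
    intro h
    have h' : ((4 * q : ℕ) : ZMod n) = 0 := by push_cast; rw [hb] at h; linear_combination h
    rw [ZMod.natCast_eq_zero_iff] at h'
    have hq0 : 0 < q := by omega
    have := Nat.le_of_dvd (by omega) h'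
    omega
  set x := φ (DihedralGroup.r b) with hx
  have hxE : x ∈ E := r_two_mul_mem T hT (q : ZMod n)
  set t := φ (DihedralGroup.r (b + b)) with ht
  have htE : t ∈ E := by
    rw [ht, show b + b = 2 * b by ring]
    exact r_two_mul_mem T hT b
  have hxt : x * x = t := by rw [hx, ht, ← map_mul, DihedralGroup.r_mul_r]
  have ht2 : orderOf t = 2 := by
    refine order_of_mul_self (by rw [ht, ← map_mul, DihedralGroup.r_mul_r, hbb, ← DihedralGroup.one_def, map_one]) ?_
    intro h
    rw [ht] at h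
    have := hφ.inj (h.trans (map_one φ).symm)
    rw [DihedralGroup.one_def, DihedralGroup.r.injEq] at this
    exact hbb' this
  have htS : ∀ s ∈ (S : Subgroup X), Commute s t := by
    intro s hs
    obtain ⟨d, rfl⟩ := hφ.exists_preimage hs
    refine Commute.map ?_ φ
    show _ = _
    rcases d with c | c
    · rw [DihedralGroup.r_mul_r, DihedralGroup.r_mul_r, add_comm]
    · rw [DihedralGroup.sr_mul_r, DihedralGroup.r_mul_sr]
      congr 1
      linear_combination hbb
  obtain ⟨d, hdE, v, -, hd3, -, -, htd, -, -⟩ := htriple t htE ht2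
  obtain ⟨N₀, hN₀, hNodd, j, hj⟩ := S0514.result S n hn
    (by obtain ⟨e'⟩ : Nonempty ((S : Subgroup X) ≃* DihedralGroup n) :=
          ⟨((MulEquiv.subgroupCongr hφ.range.symm).trans (MonoidHom.ofInjective hφ.inj).symm)⟩
        exact ⟨e'⟩) t ht2
  haveI := hN₀
  set N := N₀.map (centralizer ({t} : Set X)).subtype with hNdef
  have hdN : d ∈ N := by
    refine ⟨⟨d, mem_cent.2 htd.symm⟩, ?_, rfl⟩
    rw [SetLike.mem_coe, ← QuotientGroup.eq_one_iff]
    refine orderOf_eq_one_iff.1 (Nat.eq_one_of_dvd_coprimes (show Nat.Coprime 3 (2 ^ j) from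
      (Nat.Coprime.pow_right j (by norm_num))) ?_ ?_)
    · refine (orderOf_map_dvd (QuotientGroup.mk' N₀) _).trans ?_
      rw [Subgroup.orderOf_mk, hd3]
    · rw [← hj, index_eq_card]
      exact orderOf_dvd_natCard _
  have hNn : (centralizer ({t} : Set X)) ≤ normalizer (N : Set X) := by
    refine (normal_subgroupOf_iff_le_normalizer (map_subtype_le _)).1 ?_
    rw [show N.subgroupOf (centralizer ({t} : Set X)) = N₀ from comap_map_eq_self_of_injective (centralizer ({t} : Set X)).subtype_injective _]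
    exact hN₀
  have hNodd' : ∀ y ∈ N, Odd (orderOf y) := fun y hy => by
    refine (show Odd (Nat.card N) from ?_).of_dvd_nat (Subgroup.orderOf_dvd_natCard N hy)
    rwa [hNdef, card_map_of_injective (centralizer ({t} : Set X)).subtype_injective]
  have hNC : ∀ y ∈ N, Commute y t := fun y hy => mem_cent.1 (map_subtype_le _ hy)
  have htz : t ≠ z := fun h => hzE (h ▸ htE)
  -- involutions of `S` outside `E` invert `N`
  have hinvert : ∀ w ∈ (S : Subgroup X), w * w = 1 → w ∉ E → ∀ y ∈ N, w * y * w⁻¹ = y⁻¹ := by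
    intro w hw hw2 hwE y hy
    refine GW.inverts_of_fixfree (order_of_mul_self hw2 fun h => hwE (h ▸ one_mem E))
      (hNn (mem_cent.2 (htS w hw))) (fun y hy hyw => ?_) hy
    obtain ⟨s, hs, hsw⟩ := exists_conj_outside hφ hnk E hT hw hw2 hwE hzS (mul_self_of_order L.ord) hzE
    have hy' : s * y * s⁻¹ ∈ N := (mem_normalizer_iff.1 (hNn (mem_cent.2 (htS s hs))) y).1 hy
    have hyz : Commute (s * y * s⁻¹) z := hsw ▸ (Commute.conj_iff s).2 hyw
    have h := L.mul_self_eq_one hyz (htS z hzS).symm ht2 htz (hNC _ hy')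
    exact conj_eq_one_iff.1 (eq_one_of_odd (hNodd' _ hy') h)
  -- so the rotation of order 4 centralises `d`
  have hsr : (DihedralGroup.sr (i + b) : DihedralGroup n) ∉ T := fun h => hp₀T (by
    have h1 := T.mul_mem h (T.inv_mem (r_two_mul_mem T hT (q : ZMod n)))
    rwa [← hb, DihedralGroup.inv_r, DihedralGroup.sr_mul_r, add_neg_cancel_right] at h1)
  have hprod : x = z * φ (DihedralGroup.sr (i + b)) := by
    rw [← hp₀, hx, ← map_mul, DihedralGroup.sr_mul_sr, add_sub_cancel_left]
  have hxd : Commute x d := by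
    refine mul_inv_eq_iff_eq_mul.1 ?_
    rw [hprod, show z * φ (DihedralGroup.sr (i + b)) * d * (z * φ (DihedralGroup.sr (i + b)))⁻¹ =
      z * (φ (DihedralGroup.sr (i + b)) * d * (φ (DihedralGroup.sr (i + b)))⁻¹) * z⁻¹ by group,
      hinvert _ (hφ.mem _) (by rw [← map_mul, sr_sq, map_one]) hsr d hdN,
      hinvert z hzS (mul_self_of_order L.ord) hzE _ (inv_mem hdN), inv_inv]
  have hx4 : orderOf x = 2 ^ 2 := by
    haveI : Fact (Nat.Prime 2) := ⟨Nat.prime_two⟩
    refine orderOf_eq_prime_pow (fun h => ?_) ?_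
    · rw [pow_one, pow_two, hxt] at h
      exact ne_one_of_order_two ht2 h
    · rw [show (2 : ℕ) ^ (1 + 1) = 2 * 2 by norm_num, pow_mul, pow_two x, hxt, pow_two,
        mul_self_of_order ht2]
  have h12 : orderOf (x * d) = 12 := by
    rw [hxd.orderOf_mul_eq_mul_orderOf_of_coprime (by rw [hx4, hd3]; norm_num), hx4, hd3]
    norm_num
  refine alt_seven_no_twelve (e (⟨x, hxE⟩ * ⟨d, hdE⟩)) ?_
  rw [MulEquiv.orderOf_eq, ← Subgroup.orderOf_coe]
  exact h12

end Cfsg.Agent.DGroupCent
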