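import Cfsg.Agent.Lib.DGroupCent.Semidihedral
import Cfsg.Agent.S0206
import Cfsg.Agent.S3224
import Cfsg.Agent.Lib.GW.Setting
import Cfsg.Agent.Lib.GW.KType

/-!
# One central involution: the Sylow 2-subgroups of `G` are dihedral
-/

set_option autoImplicit false
set_option linter.style.haveILetI false

namespace Cfsg.Agent.DGroupCent

open Subgroup

universe u

variable {G : Type u} [Group G] [Finite G]

/-- A subgroup generated by two distinct involutions with the given membership is dihedral. -/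
theorem exists_dihedral (S : Subgroup G) {a b : G} (ha : orderOf a = 2) (hb : orderOf b = 2) (hne : a ≠ b)
    (haS : a ∈ S) (hbS : b ∈ S) (hgen : S ≤ closure ({a, b} : Set G)) :
    ∃ n : ℕ, 2 ≤ n ∧ Nonempty (S ≃* DihedralGroup n) := by
  obtain ⟨e⟩ := S0206.result a b ha hb hne
  have heq : S = closure ({a, b} : Set G) := le_antisymm hgen ((closure_le _).2 (by
    rintro g (rfl | rfl) <;> assumption))
  refine ⟨orderOf (a * b), ?_, ⟨(MulEquiv.subgroupCongr heq).trans e⟩⟩
  have h1 : orderOf (a * b) ≠ 1 := fun h => hne (by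
    have := orderOf_eq_one_iff.1 h
    rw [mul_eq_one_iff_eq_inv, inv_of_mul_self (mul_self_of_order hb)] at this
    exact this)
  have := orderOf_pos (a * b)
  omega

variable {H A : Subgroup G}

/-- One involution in `A`: the Sylow 2-subgroups are dihedral. -/
theorem Dat.exists_dihedral_sylow (d : Dat H A) (hns : ¬ Group.IsSolvable G) {z : G} (hzA : z ∈ A)
    (hz : orderOf z = 2) (huniq : ∀ a ∈ A, a * a = 1 → a = 1 ∨ a = z) :
    ∃ (S : Sylow 2 G) (n : ℕ), 2 ≤ n ∧ Nonempty ((S : Subgroup G) ≃* DihedralGroup n) := by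
  haveI : Fact (Nat.Prime 2) := ⟨Nat.prime_two⟩
  have hCz : centralizer ({z} : Set G) = H := d.cent z hzA hz
  by_cases h4 : ∃ a ∈ A, a ^ 4 = 1 ∧ a * a ≠ 1
  · -- a Sylow subgroup of `H` is one of `G`
    obtain ⟨a, ha, ha4, ha2⟩ := h4
    have haa : a * a = z := by
      refine (huniq _ (mul_mem ha ha) ?_).resolve_left ha2
      rw [← ha4]
      simp only [pow_succ, pow_zero, one_mul, mul_assoc]
    obtain ⟨T, hTH, ⟨u, huT, huA⟩, hA2⟩ := d.exists_sylow (fun P hP hA x hx j hj hj2 => by
      have hjz : j = z := (huniq j hj (mul_self_of_order hj2)).resolve_left (ne_one_of_order_two hj2)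
      have haP : a ∈ P := hA a ha 2 (by rw [show (2 : ℕ) ^ 2 = 4 from rfl]; exact ha4)
      have h := hP ((mem_normalizer_iff.1 hx a).1 haP)
      by_cases hax : x * a * x⁻¹ ∈ A
      · rw [hjz, ← haa, ← conj_mul]; exact mul_mem hax hax
      · exfalso
        have h2 := d.sq _ h hax
        rw [conj_mul, conj_eq_one_iff] at h2
        exact ha2 h2)
    have huH : u ∈ H := hTH huT
    set Q := (T : Subgroup G) ⊓ A with hQ
    have hQc : IsCyclic Q := by
      haveI : IsMulCommutative Q := ⟨⟨fun x y => Subtype.ext (d.comm _ x.2.2 _ y.2.2).eq⟩⟩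
      refine PGroup.isCyclic_of_unique_of_isMulCommutative (p := 2) (T.2.to_le inf_le_left) ?_ inferInstance
      intro K L hK hL
      have key : ∀ R : Subgroup Q, Nat.card R = 2 → ∀ q : Q, q ∈ R ↔ ((q : G) = 1 ∨ (q : G) = z) := by
        intro R hR q
        haveI : Nontrivial R := Finite.one_lt_card_iff_nontrivial.1 (by omega)
        obtain ⟨⟨r, hr⟩, hr1⟩ := exists_ne (1 : R)
        have hsq : ∀ w ∈ R, (w : G) = 1 ∨ (w : G) = z := fun w hw => by
          have h1 : (⟨w, hw⟩ : R) ^ 2 = 1 := hR ▸ pow_card_eq_one'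
          exact huniq w w.2.2 (by simpa [pow_two] using congrArg (fun v : R => ((v : Q) : G)) h1)
        refine ⟨hsq q, ?_⟩
        rintro (h1 | h1)
        · rw [show q = 1 from Subtype.ext h1]; exact one_mem R
        · have hrz := (hsq r hr).resolve_left fun h2 => hr1 (Subtype.ext (Subtype.ext h2))
          rw [show q = r from Subtype.ext (h1.trans hrz.symm)]
          exact hr
      ext q
      rw [key K hK, key L hL]
    obtain ⟨g, hg⟩ := hQc.exists_generator
    have hQg : ∀ q ∈ Q, q ∈ zpowers (g : G) := fun q hq => by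
      obtain ⟨i, hi⟩ := mem_zpowers_iff.1 (hg ⟨q, hq⟩)
      exact mem_zpowers_iff.2 ⟨i, by simpa using congrArg Subtype.val hi⟩
    have hzQ : z ∈ Q := ⟨hA2 z hzA 1 (by rw [pow_one, ← hz, pow_orderOf_eq_one]), hzA⟩
    have hugA : u * g ∉ A := fun h => huA ((A.mul_mem_cancel_right g.2.2).1 h)
    have hg1 : (g : G) ≠ 1 := fun h => ne_one_of_order_two hz (by
      have := hQg z hzQ
      rwa [h, zpowers_one_eq_bot, mem_bot] at this)
    have hug : u * (g : G) ∈ (T : Subgroup G) := mul_mem huT g.2.1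
    refine ⟨T, exists_dihedral (T : Subgroup G)
      (order_of_mul_self (d.sq u huH huA) fun h => huA (h ▸ one_mem A))
      (order_of_mul_self (d.sq _ (hTH hug) hugA) fun h => hugA (h ▸ one_mem A))
      (fun h => hg1 (left_eq_mul.1 h)) huT hug ?_⟩
    have huC : u ∈ closure ({u, u * (g : G)} : Set G) := subset_closure (Set.mem_insert _ _)
    have hgC : (g : G) ∈ closure ({u, u * (g : G)} : Set G) := by
      have := mul_mem huC (subset_closure (Set.mem_insert_of_mem u rfl) :
        u * (g : G) ∈ closure ({u, u * (g : G)} : Set G))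
      rwa [← mul_assoc, d.sq u huH huA, one_mul] at this
    intro t ht
    by_cases htA : t ∈ A
    · exact zpowers_le.2 hgC (hQg t ⟨ht, htA⟩)
    · have h1 : u * t ∈ Q := ⟨mul_mem huT ht, d.mul u huH huA t (hTH ht) htA⟩
      rw [show t = u * (u * t) by rw [← mul_assoc, d.sq u huH huA, one_mul]]
      exact mul_mem huC (zpowers_le.2 hgC (hQg _ h1))
  push Not at h4
  obtain ⟨u, huH, huA⟩ := d.ne
  have hu2 : orderOf u = 2 := order_of_mul_self (d.sq u huH huA) fun h => huA (h ▸ one_mem A)
  have hne : u ≠ z := fun h => huA (h ▸ hzA)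
  have hcomm : Commute u z := d.commute_of_invol hzA (mul_self_of_order hz) huH
  have hp : GW.Pair u z := ⟨hu2, hz, hcomm.eq, hne⟩
  obtain ⟨T, hT⟩ := hp.isPGroup.exists_le_sylow
  have huT : u ∈ (T : Subgroup G) := hT hp.left_mem
  have hzT : z ∈ (T : Subgroup G) := hT hp.right_mem
  set P := (T : Subgroup G) ⊓ H with hPdef
  have hP : IsPGroup 2 P := T.2.to_le inf_le_left
  obtain ⟨-, hPv⟩ := d.mem_four huniq h4 hP inf_le_right
  have hPeq : hp.four = P := by
    refine le_antisymm (le_inf hT (hp.four_le huH (d.le hzA))) fun p hp' => ?_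
    exact hp.mem_four.2 (by
      rcases hPv u ⟨huT, huH⟩ huA p hp' with h | h | h | h
      · exact Or.inl h
      · exact Or.inr (Or.inr (Or.inl h))
      · exact Or.inr (Or.inl h)
      · exact Or.inr (Or.inr (Or.inr h)))
  have hcard : Nat.card hp.four = 4 := by
    haveI := (GW.exists_four_of_commute hu2 hz hcomm.eq hne (L := hp.four) hp.left_mem hp.right_mem)
    obtain ⟨V, hV, hVle, -, -⟩ := this
    refine le_antisymm (hPeq ▸ d.card_le_four huniq h4 hP inf_le_right) ?_
    have := card_le_of_le hVle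
    rwa [hV.card_four] at this
  have hcent : Nat.card (centralizer ({⟨z, hzT⟩} : Set (T : Subgroup G))) = 4 := by
    rw [← hcard, hPeq, show centralizer ({⟨z, hzT⟩} : Set (T : Subgroup G)) = P.subgroupOf (T : Subgroup G) from ?_,
      Nat.card_congr (subgroupOfEquivOfLe (inf_le_left : P ≤ (T : Subgroup G))).toEquiv]
    ext t
    rw [mem_cent, mem_subgroupOf, hPdef, mem_inf, ← hCz, mem_cent]
    exact ⟨fun h => ⟨t.2, congrArg Subtype.val h.eq⟩, fun h => Subtype.ext h.2.eq⟩
  have hTfour : hp.four = (T : Subgroup G) → ∃ (S : Sylow 2 G) (n : ℕ), 2 ≤ n ∧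
      Nonempty ((S : Subgroup G) ≃* DihedralGroup n) := fun heq =>
    ⟨T, exists_dihedral (T : Subgroup G) hu2 hz hne huT hzT (heq ▸ hp.four_le
      (subset_closure (Set.mem_insert _ _)) (subset_closure (Set.mem_insert_of_mem u rfl)))⟩
  rcases S3224.result T.2 ⟨z, hzT⟩ (by rwa [Subgroup.orderOf_mk]) hcent with ⟨n, hn⟩ | hqd | hT4
  · refine ⟨T, n, ?_, hn⟩
    have h1 : 4 ≤ Nat.card (T : Subgroup G) := hcard ▸ card_le_of_le hT
    obtain ⟨e⟩ := hn
    rw [Nat.card_congr e.toEquiv, DihedralGroup.nat_card] at h1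
    omega
  · exact (d.not_quasiDihedral hns hzA hz huniq h4 T hzT hqd).elim
  · exact hTfour (eq_of_le_of_card_ge hT (by omega))

end Cfsg.Agent.DGroupCent
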