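import Cfsg.Agent.Lib.DGroupCent.RankTwo
import Cfsg.Agent.Lib.DGroupCent.RankOne
import Cfsg.Agent.Lib.DGroupCent.Elementary
import Cfsg.Agent.Lib.DGroupCent.Known
import Cfsg.Agent.Lib.Balance.PComp

/-!
# D-subgroups that centralise their central involutions (S3322), given the known simple sections

`main`: a nonsolvable group with such a subgroup is `PSL₂` or `PGL₂` modulo a normal subgroup of order odd
or twice odd.  The hypothesis `GW.KnownSections G` is used for one central involution only.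
-/

set_option autoImplicit false
set_option linter.style.haveILetI false

namespace Cfsg.Agent.DGroupCent

open Subgroup Matrix

universe u

variable {G : Type u} [Group G] [Finite G]

/-- The image of `H` in `G / O(G)`. -/
theorem Dat.loc {H A : Subgroup G} (d : Dat H A) {z : G} (hzA : z ∈ A) (hz : orderOf z = 2)
    (huniq : ∀ a ∈ A, a * a = 1 → a = 1 ∨ a = z) :
    Loc (QuotientGroup.mk' (Cfsg.oddCore G) z) (A.map (QuotientGroup.mk' (Cfsg.oddCore G))) := by
  haveI : Fact (Nat.Prime 2) := ⟨Nat.prime_two⟩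
  set O := Cfsg.oddCore G
  set π := QuotientGroup.mk' O
  have hOodd : Odd (Nat.card O) := PCore.odd_card_oddCore
  have hπ : ∀ {a : G}, π a = 1 ↔ a ∈ O := fun {a} => QuotientGroup.eq_one_iff a
  have hCz : centralizer ({z} : Set G) = H := d.cent z hzA hz
  have hinvO : ∀ w : G, w * w = 1 → w ∈ O → w = 1 := fun w hw hwO => by
    by_contra h1
    have := hOodd.of_dvd_nat (orderOf_dvd_natCard O hwO)
    rw [order_of_mul_self hw h1] at this
    exact absurd this (by decide)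
  have hlift : ∀ x, Commute x (π z) → x ∉ A.map π → ∃ h ∈ H, h ∉ A ∧ π h = x := by
    intro x hx hxA
    obtain ⟨g, rfl⟩ := QuotientGroup.mk'_surjective O x
    obtain ⟨n, hn, hne⟩ := Balance.exists_mem_centralizer_of_map π
      (by rw [QuotientGroup.ker_mk']; exact Nat.coprime_two_right.2 hOodd) (R := zpowers z)
      (IsPGroup.of_card (p := 2) (n := 1) (by rw [Nat.card_zpowers, hz, pow_one]))
      (g := g) (fun r hr => by
        obtain ⟨i, rfl⟩ := mem_zpowers_iff.1 hr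
        rw [map_zpow]; exact hx.zpow_right i)
    have hnH : n ∈ H := by
      rw [← hCz, mem_cent]
      exact (mem_centralizer_iff.1 hn z (mem_zpowers z)).symm
    exact ⟨n, hnH, fun h => hxA ⟨n, h, hne⟩, hne⟩
  refine ⟨?_, ⟨z, hzA, rfl⟩, ?_, ?_, ?_, ?_, ?_⟩
  · refine order_of_mul_self (by rw [← map_mul, mul_self_of_order hz, map_one]) fun h => ?_
    exact ne_one_of_order_two hz (hinvO z (mul_self_of_order hz) (hπ.1 h))
  · rintro _ ⟨a, ha, rfl⟩ _ ⟨b, hb, rfl⟩
    exact (d.comm a ha b hb).map π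
  · intro x hx hxA
    obtain ⟨h, hh, hhA, rfl⟩ := hlift x hx hxA
    rw [← map_mul, d.sq h hh hhA, map_one]
  · intro x hx hxA
    obtain ⟨h, hh, hhA, rfl⟩ := hlift x hx hxA
    rintro _ ⟨a, ha, rfl⟩
    rw [← map_inv, ← map_mul, ← map_mul, d.inv h hh hhA a ha, map_inv]
  · rintro _ ⟨a, ha, rfl⟩ haa
    rw [← map_mul, hπ] at haa
    obtain ⟨k, hk⟩ := hOodd
    have h2 : a ^ Nat.card O * a ^ Nat.card O = 1 := by
      rw [← pow_add, ← two_mul, pow_mul, pow_two]
      exact congrArg Subtype.val (pow_card_eq_one' (x := (⟨a * a, haa⟩ : O)))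
    have h3 : π (a ^ Nat.card O) = π a := by
      rw [hk, pow_succ, pow_mul, map_mul, map_pow, pow_two, hπ.2 haa, one_pow, one_mul]
    rcases huniq _ (pow_mem ha _) h2 with h4 | h4
    · exact Or.inl (by rw [← h3, h4, map_one])
    · exact Or.inr (by rw [← h3, h4])
  · obtain ⟨u, hu, huA⟩ := d.ne
    refine ⟨π u, (d.commute_of_invol hzA (mul_self_of_order hz) hu).map π, ?_⟩
    rintro ⟨a, ha, hau⟩
    have h1 : a⁻¹ * u ∈ O := QuotientGroup.eq.1 hau
    have hA : a⁻¹ * u ∉ A := fun h => huA ((A.mul_mem_cancel_left (inv_mem ha)).1 h)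
    exact hA (hinvO _ (d.sq _ (H.mul_mem (H.inv_mem (d.le ha)) hu) hA) h1 ▸ one_mem A)

/-- One central involution: `G / O(G)` is `PSL₂(q)` or `PGL₂(q)`. -/
theorem Dat.rank_one {H A : Subgroup G} (d : Dat H A) (hns : ¬ Group.IsSolvable G)
    (hk : GW.KnownSections G) {z : G} (hzA : z ∈ A) (hz : orderOf z = 2)
    (huniq : ∀ a ∈ A, a * a = 1 → a = 1 ∨ a = z) :
    ∃ (F : Type) (_ : Field F) (_ : Fintype F), 3 < Fintype.card F ∧
      (Nonempty (G ⧸ Cfsg.oddCore G ≃* ProjectiveSpecialLinearGroup (Fin 2) F) ∨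
        Nonempty (G ⧸ Cfsg.oddCore G ≃* ProjGenLinGroup (Fin 2) F)) := by
  haveI : Fact (Nat.Prime 2) := ⟨Nat.prime_two⟩
  obtain ⟨S, n, hn, ⟨e⟩⟩ := d.exists_dihedral_sylow hns hzA hz huniq
  have hd := GW.subDihedral_of_sylow S hn e
  have hsol : Group.IsSolvable (G ⧸ Cfsg.oddCore G) → False := fun h => hns (by
    haveI := h
    haveI : Group.IsSolvable (Cfsg.oddCore G) := S0205.result PCore.odd_card_oddCore
    exact Group.isSolvable_of_ker_le_range (Cfsg.oddCore G).subtype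
      (QuotientGroup.mk' (Cfsg.oddCore G)) (by simp))
  rcases GW.structure_mod_oddCore hd hk with h | ⟨⟨f⟩⟩ | ⟨⟨f⟩⟩ | ⟨E, hEn, hEs, hEk, hEc⟩
  · haveI := h.isNilpotent
    exact (hsol inferInstance).elim
  · exact (hsol (CharInt.isSolvable_of_card_eq (a := 2) (b := 1) Nat.prime_two Nat.prime_three (by
      rw [Nat.card_congr f.toEquiv, nat_card_alternatingGroup, Nat.card_fin]; rfl))).elim
  · exact (hsol (CharInt.isSolvable_of_card_eq (a := 3) (b := 1) Nat.prime_two Nat.prime_three (by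
      rw [Nat.card_congr f.toEquiv, Nat.card_perm, Nat.card_fin]; rfl))).elim
  haveI := hEn
  haveI := hEs
  exact (d.loc hzA hz huniq).known hd.quotient_oddCore E hEk hEc

/-- The theorem, given the known simple sections. -/
theorem main (H A : Subgroup G) (hAH : A < H) (hD : ∀ x ∈ H, x ∉ A → x ^ 2 = 1)
    (h4 : 4 ∣ Nat.card ↥H)
    (hC : ∀ j ∈ H, orderOf j = 2 → (∀ h ∈ H, h * j = j * h) → Subgroup.centralizer ({j} : Set G) = H)
    (hns : ¬ Group.IsSolvable G) (hk : GW.KnownSections G) :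
    ∃ (N : Subgroup G) (_ : N.Normal), (Odd (Nat.card ↥N) ∨ ∃ m : ℕ, Odd m ∧ Nat.card ↥N = 2 * m) ∧
      ∃ (F : Type) (_ : Field F) (_ : Fintype F), 3 < Fintype.card F ∧
        (Nonempty (G ⧸ N ≃* Matrix.ProjectiveSpecialLinearGroup (Fin 2) F) ∨
          Nonempty (G ⧸ N ≃* Matrix.ProjGenLinGroup (Fin 2) F)) := by
  by_cases he : ∀ h ∈ H, h * h = 1
  · have hcomm : ∀ a ∈ H, ∀ b ∈ H, a * b = b * a := by
      intro a ha b hb
      have h := he _ (mul_mem ha hb)
      rw [mul_eq_one_iff_eq_inv, _root_.mul_inv_rev, inv_of_mul_self (he a ha), inv_of_mul_self (he b hb)] at h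
      exact h
    obtain ⟨F, iF, iFF, h3, ⟨e⟩⟩ := elementary_case hns h4 he
      (fun j hj hj2 => hC j hj hj2 fun h hh => hcomm h hh j hj)
    exact ⟨⊥, inferInstance, Or.inl (by rw [card_bot]; exact odd_one), F, iF, iFF, h3,
      Or.inl ⟨QuotientGroup.quotientBot.trans e⟩⟩
  have hsq : ∀ u ∈ H, u ∉ A → u * u = 1 := fun u hu huA => by rw [← pow_two]; exact hD u hu huA
  have hinv : ∀ u ∈ H, u ∉ A → ∀ a ∈ A, u * a * u⁻¹ = a⁻¹ := by
    intro u hu huA a ha
    have huaA : u * a ∉ A := fun h => huA ((A.mul_mem_cancel_right ha).1 h)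
    have h := hsq _ (mul_mem hu (hAH.le ha)) huaA
    rw [inv_of_mul_self (hsq u hu huA)]
    refine eq_inv_of_mul_eq_one_left ?_
    rw [mul_assoc (u * a) u a]
    exact h
  obtain ⟨u₀, hu₀, hu₀A⟩ := SetLike.exists_of_lt hAH
  have hcomm : ∀ a ∈ A, ∀ b ∈ A, Commute a b := by
    intro a ha b hb
    have h1 := hinv u₀ hu₀ hu₀A _ (mul_mem ha hb)
    rw [← conj_mul, hinv u₀ hu₀ hu₀A a ha, hinv u₀ hu₀ hu₀A b hb, ← _root_.mul_inv_rev, _root_.inv_inj] at h1
    exact h1.symm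
  have hbig : ∃ a ∈ A, a * a ≠ 1 := by
    by_contra hno
    push Not at hno
    exact he fun h hh => (Classical.em (h ∈ A)).elim (hno h) (hsq h hh)
  have hmul : ∀ u ∈ H, u ∉ A → ∀ v ∈ H, v ∉ A → u * v ∈ A := by
    intro u hu huA v hv hvA
    by_contra huv
    obtain ⟨a, ha, ha2⟩ := hbig
    have h := hinv _ (mul_mem hu hv) huv a ha
    rw [show u * v * a * (u * v)⁻¹ = u * (v * a * v⁻¹) * u⁻¹ by group, hinv v hv hvA a ha,
      hinv u hu huA _ (inv_mem ha), inv_inv] at h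
    exact ha2 (by nth_rewrite 1 [h]; exact inv_mul_cancel a)
  have hcent : ∀ j ∈ A, orderOf j = 2 → centralizer ({j} : Set G) = H := by
    intro j hj hj2
    refine hC j (hAH.le hj) hj2 fun h hh => ?_
    by_cases hA : h ∈ A
    · exact (hcomm h hA j hj).eq
    · exact mul_inv_eq_iff_eq_mul.1 (by rw [hinv h hh hA j hj, inv_of_mul_self (mul_self_of_order hj2)])
  have d : Dat H A := ⟨hAH.le, hcomm, hinv, hsq, hmul, ⟨u₀, hu₀, hu₀A⟩, h4, hbig, hcent⟩
  obtain ⟨z, hzA, hz⟩ := d.exists_invol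
  by_cases huniq : ∀ a ∈ A, a * a = 1 → a = 1 ∨ a = z
  · obtain ⟨F, iF, iFF, h3, h⟩ := d.rank_one hns hk hzA hz huniq
    exact ⟨Cfsg.oddCore G, inferInstance, Or.inl PCore.odd_card_oddCore, F, iF, iFF, h3, h⟩
  push Not at huniq
  obtain ⟨a, ha, haa, ha1, haz⟩ := huniq
  obtain ⟨N, hN, hcard, F, iF, iFF, h3, h⟩ :=
    d.rank_two hns hzA hz ha (order_of_mul_self haa ha1) (Ne.symm haz)
  exact ⟨N, hN, Or.inr hcard, F, iF, iFF, h3, Or.inl h⟩

end Cfsg.Agent.DGroupCent
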