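import Cfsg.Agent.Lib.DGroupCent.Setup
import Cfsg.Agent.Lib.ZStar.Main
import Cfsg.Agent.Lib.ZStar.Consumers
import Cfsg.Agent.Lib.Coprime.Basic
import Cfsg.Agent.Lib.CharInt.Burnside
import Cfsg.Agent.Lib.PSL2.Basic
import Cfsg.Agent.Lib.SL2Presentation.Even
import Cfsg.Agent.S2202
import Cfsg.Agent.S0205

/-!
# D-subgroups with at least two central involutions

The normal subgroup of index two avoiding the reflections has abelian involution centralisers, so it is
`SL₂(2^n) × B`; a fixed point of `N(T)` outside it is isolated and `Z*` gives the quotient.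
-/

set_option autoImplicit false
set_option linter.style.haveILetI false

namespace Cfsg.Agent.DGroupCent

open Subgroup Matrix

universe u

variable {G : Type u} [Group G]

theorem isSolvable_of_index_two {M : Subgroup G} [M.Normal] (hM : M.index = 2)
    (hs : Group.IsSolvable M) : Group.IsSolvable G := by
  haveI := hs
  haveI : Fact (Nat.Prime 2) := ⟨Nat.prime_two⟩
  haveI : Group.IsNilpotent (G ⧸ M) := by
    haveI : Finite (G ⧸ M) := Nat.finite_of_card_ne_zero (by rw [← index_eq_card, hM]; norm_num)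
    exact (IsPGroup.of_card (n := 1) (by rw [← index_eq_card, hM, pow_one])).isNilpotent
  exact Group.isSolvable_of_ker_le_range M.subtype (QuotientGroup.mk' M) (by simp)

/-- A 2-element of `SL₂` in characteristic two squares to one. -/
theorem sq_eq_one_of_two_pow {F : Type*} [Field F] [CharP F 2] (g : SpecialLinearGroup (Fin 2) F) {k : ℕ}
    (hk : g ^ 2 ^ k = 1) : g * g = 1 := by
  have hM : ∀ s : SpecialLinearGroup (Fin 2) F, trace (s * s).1 = trace s.1 ^ 2 := by
    intro s
    rw [Matrix.SpecialLinearGroup.coe_mul]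
    simp only [trace_fin_two, Matrix.mul_apply, Fin.sum_univ_two]
    rw [CharTwo.add_sq]
    linear_combination (s.1 0 1 * s.1 1 0) * (CharTwo.two_eq_zero (R := F))
  have hpow : ∀ j : ℕ, trace (g ^ 2 ^ j).1 = trace g.1 ^ 2 ^ j := by
    intro j
    induction j with
    | zero => simp
    | succ j ih => rw [pow_succ, pow_mul, pow_two, hM, ih, ← pow_mul]
  have ht : trace g.1 = 0 := by
    have h := hpow k
    rw [hk] at h
    have h2 : trace (1 : SpecialLinearGroup (Fin 2) F).1 = 0 := by
      rw [Matrix.SpecialLinearGroup.coe_one, trace_fin_two, Matrix.one_apply_eq, Matrix.one_apply_eq]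
      exact CharTwo.add_self_eq_zero _
    rw [h2] at h
    exact pow_eq_zero_iff (pow_ne_zero _ two_ne_zero) |>.1 h.symm
  rw [trace_fin_two] at ht
  have hd := g.2
  rw [det_fin_two] at hd
  have hneg : g.1 1 1 = g.1 0 0 := by
    linear_combination ht - g.1 0 0 * (CharTwo.two_eq_zero (R := F))
  apply Subtype.ext
  rw [Matrix.SpecialLinearGroup.coe_mul, Matrix.SpecialLinearGroup.coe_one]
  ext i j
  fin_cases i <;> fin_cases j <;> simp only [Matrix.mul_apply, Fin.sum_univ_two] <;> simp [hneg]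
  all_goals first
    | (rw [hneg] at hd; linear_combination hd + g.1 0 1 * g.1 1 0 * (CharTwo.two_eq_zero (R := F)))
    | (linear_combination (g.1 0 0 * g.1 0 1) * (CharTwo.two_eq_zero (R := F)))
    | (linear_combination (g.1 0 0 * g.1 1 0) * (CharTwo.two_eq_zero (R := F)))

variable [Finite G]

/-- The case of two distinct involutions in `A`. -/
theorem Dat.rank_two {H A : Subgroup G} (d : Dat H A) (hns : ¬ Group.IsSolvable G) {i₁ i₂ : G}
    (h1 : i₁ ∈ A) (h1' : orderOf i₁ = 2) (h2 : i₂ ∈ A) (h2' : orderOf i₂ = 2) (h12 : i₁ ≠ i₂) :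
    ∃ (N : Subgroup G) (_ : N.Normal), (∃ m : ℕ, Odd m ∧ Nat.card ↥N = 2 * m) ∧
      ∃ (F : Type) (_ : Field F) (_ : Fintype F), 3 < Fintype.card F ∧
        Nonempty (G ⧸ N ≃* ProjectiveSpecialLinearGroup (Fin 2) F) := by
  classical
  haveI : Fact (Nat.Prime 2) := ⟨Nat.prime_two⟩
  have hnc := @Dat.not_conj G _ H A d i₁ i₂ h1 h1' h2 h2' h12
  obtain ⟨T, hTH, ⟨u, huT, huA⟩, hA2⟩ := d.exists_sylow (fun P hP hA x hx j hj hj2 => by
    have hjP : j ∈ P := hA j hj 1 (by rw [pow_one, ← hj2, pow_orderOf_eq_one])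
    have h := hP ((mem_normalizer_iff.1 hx j).1 hjP)
    by_contra hn
    exact hnc h hn hj hj2 x rfl)
  have huH : u ∈ H := hTH huT
  set Q := (T : Subgroup G) ⊓ A with hQ
  have hQi : Q.relIndex (T : Subgroup G) = 2 := by
    refine index_eq_two_iff.2 ⟨⟨u, huT⟩, fun b => ?_⟩
    simp only [mem_subgroupOf, Subgroup.coe_mul, hQ, mem_inf, SetLike.coe_mem, mul_mem, huT, true_and]
    by_cases hb : (b : G) ∈ A
    · exact Or.inr ⟨hb, fun h => huA ((A.mul_mem_cancel_left hb).1 h)⟩
    · exact Or.inl ⟨d.mul b (hTH b.2) hb u huH huA, hb⟩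
  have hout : ∀ v ∈ (T : Subgroup G), v ∉ Q → v ∉ A := fun v hv h hA => h ⟨hv, hA⟩
  obtain ⟨M, hMn, hMi, hMT⟩ := exists_index_two T Q inf_le_left hQi
    (fun v hv h => d.sq v (hTH hv) (hout v hv h)) (fun v hv h g hg => by
      refine hnc (hTH hv) (hout v hv h) hg.2 ?_ g⁻¹ (by group)
      rw [order_conj]
      exact order_of_mul_self (d.sq v (hTH hv) (hout v hv h)) fun e => hout v hv h (e ▸ one_mem A))
  haveI := hMn
  have hQM : Q ≤ M := by
    intro q hq
    by_contra hqM
    have huM : u ∉ M := fun h => huA (hMT u huT h).2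
    have h := hMT (u * q) (mul_mem huT hq.1) ((mul_mem_iff_of_index_two hMi).2 (iff_of_false huM hqM))
    exact huA ((A.mul_mem_cancel_right hq.2).1 h.2)
  have hAn : ∀ c ∈ H, ∀ a ∈ A, c * a * c⁻¹ ∈ A := by
    intro c hc a ha
    by_cases hcA : c ∈ A
    · exact mul_mem (mul_mem hcA ha) (inv_mem hcA)
    · rw [d.inv c hc hcA a ha]; exact inv_mem ha
  have hMH : ∀ h ∈ H, h ∈ M → h ∈ A := by
    intro h hh hhM
    by_contra hhA
    have hp : IsPGroup 2 (zpowers (⟨h, hh⟩ : H)) := by
      obtain ⟨i, -, hi⟩ := (Nat.dvd_prime_pow Nat.prime_two).1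
        (orderOf_dvd_of_pow_eq_one (n := 2 ^ 1) (x := (⟨h, hh⟩ : H))
          (Subtype.ext (by simpa [pow_two] using d.sq h hh hhA)))
      exact IsPGroup.of_card (n := i) (by rw [Nat.card_zpowers, hi])
    obtain ⟨R, hR⟩ := hp.exists_le_sylow
    obtain ⟨c, hc⟩ := MulAction.exists_smul_eq H R (T.subtype hTH)
    have h3 : MulAut.conj c • (⟨h, hh⟩ : H) ∈ ((T.subtype hTH : Sylow 2 H) : Subgroup H) := by
      rw [← hc]
      exact Subgroup.smul_mem_pointwise_smul _ (MulAut.conj c) _ (hR (mem_zpowers _))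
    have h4 : (c : G) * h * (c : G)⁻¹ ∈ (T : Subgroup G) := h3
    have h5 := (hMT _ h4 (hMn.conj_mem h hhM c)).2
    exact hhA (by simpa [mul_assoc] using hAn _ (inv_mem c.2) _ h5)
  have habel : ∀ t : M, orderOf t = 2 → IsMulCommutative (centralizer ({t} : Set M)) := by
    intro t ht
    have ht' : orderOf (t : G) = 2 := by rwa [Subgroup.orderOf_coe]
    obtain ⟨R, hR⟩ := (IsPGroup.of_card (p := 2) (n := 1) (G := zpowers (t : G))
      (by rw [Nat.card_zpowers, ht', pow_one])).exists_le_sylow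
    obtain ⟨g, hg⟩ := MulAction.exists_smul_eq G R T
    have h1 : g * t * g⁻¹ ∈ (T : Subgroup G) := by
      rw [← hg, Sylow.coe_subgroup_smul]
      exact Subgroup.smul_mem_pointwise_smul (t : G) (MulAut.conj g) _ (hR (mem_zpowers _))
    have h2 := d.cent _ (hMT _ h1 (hMn.conj_mem _ t.2 g)).2 (by rw [order_conj]; exact ht')
    have h3 : ∀ c : centralizer ({t} : Set M), g * ((c : M) : G) * g⁻¹ ∈ A := fun c =>
      hMH _ (h2 ▸ mem_cent.2 ((Commute.conj_iff g).2 (congrArg Subtype.val (mem_cent.1 c.2).eq)))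
        (hMn.conj_mem _ (c : M).2 g)
    exact ⟨⟨fun a b => Subtype.ext (Subtype.ext
      ((Commute.conj_iff g).1 (d.comm _ (h3 a) _ (h3 b))).eq)⟩⟩
  have hi1Q : i₁ ∈ Q := ⟨hA2 i₁ h1 1 (by rw [pow_one, ← h1', pow_orderOf_eq_one]), h1⟩
  have hi2Q : i₂ ∈ Q := ⟨hA2 i₂ h2 1 (by rw [pow_one, ← h2', pow_orderOf_eq_one]), h2⟩
  have heven : Even (Nat.card M) := even_iff_two_dvd.2 (by
    rw [← h1']; exact orderOf_dvd_natCard M (hQM hi1Q))
  rcases S2202.result heven habel with hcyc | hnorm | ⟨F, iF, iFF, B, iB, iBf, hchar, hB, ⟨e⟩⟩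
  · exfalso
    obtain ⟨R, hR⟩ := ((T.2.to_le inf_le_left : IsPGroup 2 Q).comap_subtype :
      IsPGroup 2 (Q.subgroupOf M)).exists_le_sylow
    haveI := hcyc R
    obtain ⟨σ, hσ⟩ := IsCyclic.exists_generator (α := (R : Subgroup M))
    have hmem : ∀ (i : G) (hi : i ∈ Q), i ∈ zpowers (((σ : M)) : G) := by
      intro i hi
      obtain ⟨l, hl⟩ := mem_zpowers_iff.1 (hσ ⟨⟨i, hQM hi⟩, hR (mem_subgroupOf.2 hi)⟩)
      refine mem_zpowers_iff.2 ⟨l, ?_⟩
      have := congrArg (fun w : (R : Subgroup M) => ((w : M) : G)) hl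
      simpa using this
    haveI : IsCyclic (zpowers (((σ : M)) : G)) := inferInstance
    haveI : Fintype (zpowers (((σ : M)) : G)) := Fintype.ofFinite _
    have hle := IsCyclic.card_pow_eq_one_le (α := zpowers (((σ : M)) : G)) (n := 2) (by norm_num)
    have h3 : ({1, ⟨i₁, hmem i₁ hi1Q⟩, ⟨i₂, hmem i₂ hi2Q⟩} : Finset (zpowers (((σ : M)) : G))) ⊆
        Finset.univ.filter (fun w => w ^ 2 = 1) := by
      intro w hw
      simp only [Finset.mem_insert, Finset.mem_singleton] at hw
      refine Finset.mem_filter.2 ⟨Finset.mem_univ _, ?_⟩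
      rcases hw with rfl | rfl | rfl
      · exact one_pow 2
      · exact Subtype.ext (by simpa [pow_two] using mul_self_of_order h1')
      · exact Subtype.ext (by simpa [pow_two] using mul_self_of_order h2')
    have h4 := (Finset.card_le_card h3).trans hle
    rw [Finset.card_insert_of_notMem, Finset.card_pair] at h4
    · omega
    · exact fun h => h12 (congrArg Subtype.val h)
    · simp only [Finset.mem_insert, Finset.mem_singleton, not_or]
      exact ⟨fun h => ne_one_of_order_two h1' (congrArg Subtype.val h).symm,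
        fun h => ne_one_of_order_two h2' (congrArg Subtype.val h).symm⟩
  · exfalso
    obtain ⟨R⟩ : Nonempty (Sylow 2 M) := inferInstance
    haveI := hnorm R
    haveI : Group.IsNilpotent (R : Subgroup M) := R.2.isNilpotent
    haveI : Group.IsSolvable (M ⧸ (R : Subgroup M)) := S0205.result (by
      rw [← index_eq_card]; exact Nat.odd_iff.2 (Nat.two_dvd_ne_zero.1 R.not_dvd_index))
    exact hns (isSolvable_of_index_two hMi
      (Group.isSolvable_of_ker_le_range (R : Subgroup M).subtype (QuotientGroup.mk' (R : Subgroup M)) (by simp)))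
  haveI := hchar
  -- the field has more than three elements
  have hF : 4 ≤ Fintype.card F := by
    by_contra hlt
    have h2 : Fintype.card F % 2 = 0 := FiniteField.even_card_of_char_two (ringChar.eq F 2)
    have h1 := Fintype.one_lt_card (α := F)
    have hcard : Fintype.card F = 2 := by omega
    haveI : Group.IsSolvable (SpecialLinearGroup (Fin 2) F) :=
      CharInt.isSolvable_of_card_eq (a := 1) (b := 1) Nat.prime_two Nat.prime_three
        (by rw [PSL2.card_SL', hcard]; norm_num)
    exact hns (isSolvable_of_index_two hMi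
      (Group.isSolvable_of_isSolvable_injective (f := e.toMonoidHom) e.injective))
  -- the Sylow subgroup is elementary abelian
  have hexp : ∀ v ∈ (T : Subgroup G), v * v = 1 := by
    intro v hv
    by_cases hvQ : v ∈ Q
    · obtain ⟨k, hk⟩ := T.2 ⟨v, hv⟩
      set q : M := ⟨v, hQM hvQ⟩
      have hqk : q ^ 2 ^ k = 1 := Subtype.ext (by simpa [q] using congrArg Subtype.val hk)
      have hek : e q ^ 2 ^ k = 1 := by rw [← map_pow, hqk, map_one]
      have hb : (e q).2 = 1 := by
        refine orderOf_eq_one_iff.1 (Nat.eq_one_of_dvd_coprimes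
          ((Nat.coprime_two_right.2 hB).pow_right k) (orderOf_dvd_natCard _) ?_)
        exact orderOf_dvd_of_pow_eq_one (by rw [← Prod.pow_snd, hek]; rfl)
      have hs := sq_eq_one_of_two_pow (e q).1 (k := k) (by rw [← Prod.pow_fst, hek]; rfl)
      have hqq : q * q = 1 := e.injective (by
        rw [map_mul, map_one]; exact Prod.ext hs (by simp [hb]))
      exact congrArg Subtype.val hqq
    · exact d.sq v (hTH hv) (hout v hv hvQ)
  have hTc : ∀ v ∈ (T : Subgroup G), ∀ w ∈ (T : Subgroup G), Commute v w := by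
    intro v hv w hw
    show v * w = w * v
    have h := inv_of_mul_self (hexp _ (mul_mem hv hw))
    rw [_root_.mul_inv_rev, inv_of_mul_self (hexp v hv), inv_of_mul_self (hexp w hw)] at h
    exact h.symm
  -- a point fixed by `N(T)` outside `M`
  set NT := normalizer ((T : Subgroup G) : Set G) with hNT
  have hQn : NT ≤ normalizer (Q : Set G) := fun g hg => mem_normalizer_iff.2 fun q =>
    ⟨fun hq => hMT _ ((mem_normalizer_iff.1 hg q).1 hq.1) (hMn.conj_mem q (hQM hq) g),
      fun hq => hMT _ ((mem_normalizer_iff.1 hg q).2 hq.1)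
        (by simpa [mul_assoc] using hMn.conj_mem _ (hQM hq) g⁻¹)⟩
  haveI : ((T : Subgroup G).subgroupOf NT).Normal :=
    (normal_subgroupOf_iff_le_normalizer le_normalizer).2 le_rfl
  obtain ⟨K₀, hK₀⟩ := exists_right_complement'_of_coprime (N := (T : Subgroup G).subgroupOf NT)
    (T.subtype le_normalizer).card_coprime_index
  set K := K₀.map NT.subtype
  have hKN : K ≤ NT := map_subtype_le _
  have hKcop : (Nat.card K).Coprime (Nat.card Q) := by
    rw [card_map_of_injective NT.subtype_injective]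
    have h := (T.subtype le_normalizer : Sylow 2 NT).card_coprime_index
    rw [show ((T.subtype le_normalizer : Sylow 2 NT) : Subgroup NT) = (T : Subgroup G).subgroupOf NT from rfl,
      hK₀.symm.index_eq_card, Nat.card_congr (subgroupOfEquivOfLe (le_normalizer : (T : Subgroup G) ≤ NT)).toEquiv] at h
    exact (h.coprime_dvd_left (card_dvd_of_le inf_le_left)).symm
  have hQs : Group.IsSolvable Q := by
    haveI : Group.IsNilpotent Q := (T.2.to_le inf_le_left : IsPGroup 2 Q).isNilpotent
    infer_instance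
  have huQ : u ∉ Q := fun h => huA h.2
  obtain ⟨n, hn, hxK⟩ := Coprime.exists_mul_mem_centralizer (hKN.trans hQn) hKcop (Or.inr hQs) (k := u)
    (fun a ha => by
      have hau : a * u * a⁻¹ ∈ (T : Subgroup G) := (mem_normalizer_iff.1 (hKN ha) u).1 huT
      have hauQ : a * u * a⁻¹ ∉ Q := fun h => huQ ((mem_normalizer_iff.1 (hQn (hKN ha)) u).2 h)
      have h := (mul_mem_iff_of_index_two hQi (a := (⟨u⁻¹, inv_mem huT⟩ : (T : Subgroup G)))
        (b := ⟨_, hau⟩)).2 (by simp [mem_subgroupOf, huQ, hauQ])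
      simpa [mem_subgroupOf, mul_assoc] using h)
  set x := u * n with hxdef
  have hxT : x ∈ (T : Subgroup G) := mul_mem huT hn.1
  have hxA : x ∉ A := fun h => huA ((A.mul_mem_cancel_right hn.2).1 h)
  have hx2 : orderOf x = 2 := order_of_mul_self (hexp x hxT) fun e => hxA (e ▸ one_mem A)
  have hxN : ∀ g ∈ NT, Commute g x := by
    intro g hg
    obtain ⟨⟨⟨s, hs⟩, ⟨k, hk⟩⟩, hsk, -⟩ :=
      (Subgroup.isComplement'_def.mp hK₀).existsUnique (⟨g, hg⟩ : NT)
    have hgsk : (s : G) * k = g := congrArg Subtype.val hsk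
    rw [← hgsk]
    exact (hTc _ (mem_subgroupOf.1 hs) x hxT).mul_left
      (mem_centralizer_iff.1 hxK _ ⟨k, hk, rfl⟩)
  have hiso : IsIsolatedInvolution x := ZStar.isolated_of_sylow hx2 hxT fun g hg => by
    have hTcen : ∀ w ∈ (T : Subgroup G), w ∈ centralizer ((T : Subgroup G) : Set G) := fun w hw =>
      mem_centralizer_iff.2 fun y hy => (hTc y hy w hw).eq
    obtain ⟨c, hc, he⟩ := Sylow.conj_eq_normalizer_conj_of_mem_centralizer T x g⁻¹ (hTcen x hxT)
      (by rw [inv_inv]; exact hTcen _ hg)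
    rw [inv_inv] at he
    rw [he, mul_assoc, ← (hxN c hc).eq, inv_mul_cancel_left]
  have hZ := ZStar.inZStar hiso
  set O := Cfsg.oddCore G
  have hOodd : Odd (Nat.card O) := PCore.odd_card_oddCore
  have hOM : O ≤ M := by
    intro o ho
    obtain ⟨k, hk⟩ := hOodd.of_dvd_nat (orderOf_dvd_natCard O ho)
    have h2 : o = (o * o) ^ (k + 1) := by
      rw [← pow_two, ← pow_mul, show 2 * (k + 1) = orderOf o + 1 by omega, pow_succ,
        pow_orderOf_eq_one, one_mul]
    rw [h2]
    exact pow_mem (mul_self_mem_of_index_two hMi o) _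
  have hxM : x ∉ M := fun h => hxA (hMT x hxT h).2
  have hxO : x ∉ O := fun h => hxM (hOM h)
  have hdisj : zpowers x ⊓ O = ⊥ := by
    refine disjoint_iff.1 (PCore.disjoint_of_isPGroup_of_coprime
      (IsPGroup.of_card (p := 2) (n := 1) (by rw [Nat.card_zpowers, hx2, pow_one])) ?_)
    exact Nat.coprime_two_right.2 hOodd
  have hnx : zpowers x ≤ normalizer (O : Set G) := by rw [normalizer_eq_top (H := O)]; exact le_top
  set N := zpowers x ⊔ O with hN
  have hxin : x ∈ N := mem_sup_left (mem_zpowers x)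
  have hNn : N.Normal := ⟨fun y hy g => by
    have hle : N.map (MulAut.conj g).toMonoidHom ≤ N := by
      rw [hN, Subgroup.map_sup]
      refine sup_le ?_ ?_
      · rw [MonoidHom.map_zpowers, zpowers_le]
        have h1 : g * x * g⁻¹ = (g * x * g⁻¹ * x⁻¹) * x := by group
        show g * x * g⁻¹ ∈ N
        rw [h1]
        exact mul_mem (mem_sup_right (hZ g)) hxin
      · rintro _ ⟨o, ho, rfl⟩
        exact mem_sup_right ((inferInstance : O.Normal).conj_mem o ho g)
    exact hle ⟨y, hy, rfl⟩⟩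
  haveI := hNn
  have hNM : ∀ m ∈ M, m ∈ N → m ∈ O := by
    intro m hm hmN
    obtain ⟨a, ha, o, ho, rfl⟩ := (Coprime.mem_sup_iff_of_le_normalizer hnx).1 hmN
    have haM : a ∈ M := by simpa using mul_mem hm (inv_mem (hOM ho))
    obtain ⟨l, hl⟩ := mem_zpowers_iff.1 ha
    rcases Int.even_or_odd' l with ⟨l', rfl | rfl⟩
    · rw [← hl, _root_.zpow_mul, zpow_two, hexp x hxT, _root_.one_zpow, one_mul]; exact ho
    · exfalso
      rw [_root_.zpow_add, _root_.zpow_mul, zpow_two, hexp x hxT, _root_.one_zpow, one_mul, zpow_one] at hl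
      exact hxM (hl ▸ haM)
  refine ⟨N, hNn, ⟨Nat.card O, hOodd, ?_⟩, F, iF, iFF, by omega, ?_⟩
  · rw [hN, Coprime.card_sup_of_le_normalizer hnx hdisj, Nat.card_zpowers, hx2]
  set f : M →* SpecialLinearGroup (Fin 2) F := (MonoidHom.fst _ _).comp e.toMonoidHom
  have hf : Function.Surjective f := fun s => ⟨e.symm (s, 1), by simp [f]⟩
  obtain ⟨eP⟩ := SL2Presentation.nonempty_equiv_psl (F := F)
  have hker : f.ker = O.subgroupOf M := by
    apply le_antisymm
    · have hodd : Odd (Nat.card f.ker) := by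
        refine hB.of_dvd_nat (Subgroup.card_dvd_of_injective
          (((MonoidHom.snd _ _).comp e.toMonoidHom).comp f.ker.subtype) ?_)
        rw [injective_iff_map_eq_one]
        intro a ha
        have h1 : (e (a : M)).1 = 1 := a.2
        exact Subtype.ext (e.injective ((show e (a : M) = 1 from Prod.ext h1 ha).trans (map_one e).symm))
      have h := PCore.le_oddCore (N := f.ker) hodd
      rwa [show Cfsg.oddCore M = O.subgroupOf M from PCore.pPrimeCore_normal_subgroup_eq M] at h
    · haveI : IsSimpleGroup (ProjectiveSpecialLinearGroup (Fin 2) F) := PSL2.psl_isSimpleGroup hF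
      haveI : IsSimpleGroup (SpecialLinearGroup (Fin 2) F) := eP.isSimpleGroup
      have hn : ((O.subgroupOf M).map f).Normal := Subgroup.Normal.map inferInstance f hf
      rcases hn.eq_bot_or_eq_top with h | h
      · rwa [Subgroup.map_eq_bot_iff] at h
      · exfalso
        have h5 : Odd (Nat.card (SpecialLinearGroup (Fin 2) F)) := by
          rw [← Subgroup.card_top, ← h]
          refine hOodd.of_dvd_nat ((Subgroup.card_map_dvd _ _).trans ?_)
          rw [Nat.card_congr (subgroupOfEquivOfLe hOM).toEquiv]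
        exact hns (isSolvable_of_index_two hMi (by
          haveI := S0205.result h5
          exact Group.isSolvable_of_isSolvable_injective (f := e.toMonoidHom) e.injective))
  set ψ : M →* G ⧸ N := (QuotientGroup.mk' N).comp M.subtype
  have hψ : Function.Surjective ψ := by
    intro y
    obtain ⟨b, rfl⟩ := QuotientGroup.mk_surjective y
    by_cases hb : b ∈ M
    · exact ⟨⟨b, hb⟩, rfl⟩
    · exact ⟨⟨b * x, (mul_mem_iff_of_index_two hMi).2 (iff_of_false hb hxM)⟩,
        QuotientGroup.eq.2 (by simpa using inv_mem hxin)⟩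
  have hkψ : f.ker = ψ.ker := by
    rw [hker]
    ext m
    simp only [ψ, mem_subgroupOf, MonoidHom.mem_ker, MonoidHom.coe_comp, Function.comp_apply,
      QuotientGroup.mk'_apply, coe_subtype, QuotientGroup.eq_one_iff]
    exact ⟨fun h => mem_sup_right h, hNM m m.2⟩
  exact ⟨(((QuotientGroup.quotientKerEquivOfSurjective ψ hψ).symm.trans
    (QuotientGroup.quotientMulEquivOfEq hkψ.symm)).trans
    (QuotientGroup.quotientKerEquivOfSurjective f hf)).trans eP⟩

end Cfsg.Agent.DGroupCent
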